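import Cfsg.Prelude.Def_CaseTheorems
import Cfsg.Agent.Lib.Components.Quasisimple
import Cfsg.Agent.Lib.NonComponent.Connected
import Cfsg.Agent.Lib.Involution.StronglyEmbedded
import Cfsg.Agent.Lib.Involution.KleinFour
import Cfsg.Agent.Lib.Transfer.Tate
import Cfsg.Agent.Lib.Transfer.QuaternionFusion
import Cfsg.Agent.Lib.ZStar.Apply
import Cfsg.Agent.Lib.ZStarPrimePower.Proved
import Cfsg.Agent.Lib.Cores.Subnormal
import Cfsg.Agent.Lib.HallHigman.PSolvable

/-!
# Reduction of groups with solvable involution centralisers: generalities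

* `se_of_control` : strong embedding from control of the involutions of a Sylow 2-subgroup
* `not_isComponentType` : solvable involution centralisers
* `not_isolated`, `not_rankLE_one` : consequences of the `Z*`-theorem
* `isFourConnected_of_central` : a central four-group
* `complement_of_aut` : centralisers inside `N(T)` when `Aut T` is a 2-group
-/

set_option autoImplicit false
set_option linter.style.haveILetI false

namespace Cfsg.Agent.ZGroupReduce

open Subgroup

variable {G : Type*} [Group G] [Finite G]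

theorem se_of_control (T : Sylow 2 G) {M : Subgroup G} (hne : M ≠ ⊤) (hTM : (T : Subgroup G) ≤ M)
    (heven : Even (Nat.card G))
    (hctrl : ∀ v ∈ (T : Subgroup G), orderOf v = 2 →
      ∀ g : G, g * v * g⁻¹ ∈ (T : Subgroup G) → g ∈ M) :
    Cfsg.IsStronglyEmbedded M := by
  haveI : Fact (Nat.Prime 2) := ⟨Nat.prime_two⟩
  refine Involution.isStronglyEmbedded_iff_forall.2 ⟨hne, ?_, fun g t ht htM hg => ?_⟩
  · exact even_iff_two_dvd.2 ((T.dvd_card_of_dvd_card (even_iff_two_dvd.1 heven)).trans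
      (card_dvd_of_le hTM))
  obtain ⟨m₁, h1⟩ := Involution.exists_conj_mem_sylow (T.subtype hTM) (t := (⟨t, htM⟩ : M))
    (by rw [Subgroup.orderOf_mk]; exact ht)
  obtain ⟨m₂, h2⟩ := Involution.exists_conj_mem_sylow (T.subtype hTM) (t := (⟨g * t * g⁻¹, hg⟩ : M))
    (by rw [Subgroup.orderOf_mk, Involution.orderOf_conj]; exact ht)
  have h1' : (m₁ : G) * t * (m₁ : G)⁻¹ ∈ (T : Subgroup G) := mem_subgroupOf.1 h1
  have h2' : (m₂ : G) * (g * t * g⁻¹) * (m₂ : G)⁻¹ ∈ (T : Subgroup G) := mem_subgroupOf.1 h2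
  have key := hctrl _ h1' (by rw [Involution.orderOf_conj]; exact ht)
    ((m₂ : G) * g * (m₁ : G)⁻¹) (by
      rw [show (m₂ : G) * g * (m₁ : G)⁻¹ * ((m₁ : G) * t * (m₁ : G)⁻¹) * ((m₂ : G) * g * (m₁ : G)⁻¹)⁻¹
        = (m₂ : G) * (g * t * g⁻¹) * (m₂ : G)⁻¹ by group]
      exact h2')
  have := mul_mem (mul_mem (inv_mem m₂.2) key) m₁.2
  rwa [show (m₂ : G)⁻¹ * ((m₂ : G) * g * (m₁ : G)⁻¹) * (m₁ : G) = g by group] at this

theorem not_hasComponent {H : Type*} [Group H] [hs : Group.IsSolvable H] : ¬ Cfsg.HasComponent H := by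
  rintro ⟨K, -, hK⟩
  exact Components.IsQuasisimple.not_isSolvable hK inferInstance

theorem not_isComponentType
    (hC : ∀ t : G, orderOf t = 2 → Group.IsSolvable ↥(centralizer ({t} : Set G))) :
    ¬ Cfsg.IsComponentType G := by
  rintro ⟨t, ht, h⟩
  haveI := hC t ht
  exact not_hasComponent h

theorem not_isolated (hO : Cfsg.oddCore G = ⊥) (hO2 : Cfsg.pCore 2 G = ⊥) (z : G) :
    ¬ Cfsg.IsIsolatedInvolution z := by
  intro hz
  haveI : Fact (Nat.Prime 2) := ⟨Nat.prime_two⟩
  have hc := ZStar.isolated_mem_center ZStarPrimePower.uniqueInvolutionZStar_proved hz hO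
  have hn : (zpowers z).Normal := ⟨fun x hx g => by
    have : x ∈ Subgroup.center G := (zpowers_le.2 hc) hx
    rw [Subgroup.mem_center_iff.1 this g, mul_inv_cancel_right]; exact hx⟩
  have h1 : zpowers z ≤ Cfsg.pCore 2 G := le_sSup ⟨hn, IsPGroup.of_card (n := 1)
    (by rw [Nat.card_zpowers, hz.1, pow_one])⟩
  rw [hO2, le_bot_iff, zpowers_eq_bot] at h1
  exact Involution.ne_one hz.1 h1

theorem elemAb_pair {a b : G} (ha : a ^ 2 = 1) (hb : b ^ 2 = 1) (hab : Commute a b) :
    Cfsg.IsElementaryAbelian 2 (zpowers a ⊔ zpowers b) := by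
  refine Signalizer.elemAb_sup (CoreKilling.isElementaryAbelian_zpowers ha)
    (CoreKilling.isElementaryAbelian_zpowers hb) ?_
  intro x hx y hy
  obtain ⟨i, rfl⟩ := mem_zpowers_iff.1 hx
  obtain ⟨j, rfl⟩ := mem_zpowers_iff.1 hy
  exact (hab.zpow_zpow i j).eq

omit [Finite G] in
theorem mem_zpowers_of_orderOf_two {a x : G} (ha : orderOf a = 2) (hx : x ∈ zpowers a) :
    x = 1 ∨ x = a := by
  obtain ⟨i, rfl⟩ := mem_zpowers_iff.1 hx
  rcases Int.emod_two_eq_zero_or_one i with h | h <;>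
    rw [← zpow_mod_orderOf, ha, Nat.cast_ofNat, h]
  · exact Or.inl (zpow_zero a)
  · exact Or.inr (zpow_one a)

theorem card_pair {a b : G} (ha : orderOf a = 2) (hb : orderOf b = 2) (hab : Commute a b)
    (hne : a ≠ b) : Nat.card ↥(zpowers a ⊔ zpowers b) = 4 := by
  haveI : Fact (Nat.Prime 2) := ⟨Nat.prime_two⟩
  have he := elemAb_pair (ha ▸ pow_orderOf_eq_one a) (hb ▸ pow_orderOf_eq_one b) hab
  rw [Signalizer.card_sup_zpowers he le_sup_left
    ((le_sup_right : zpowers b ≤ _) (mem_zpowers b)) fun h => ?_, Nat.card_zpowers, ha]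
  rcases mem_zpowers_of_orderOf_two ha h with e | e
  · exact Involution.ne_one hb e
  · exact hne e.symm

theorem exists_central_involution (T : Sylow 2 G) (heven : Even (Nat.card G)) :
    ∃ z ∈ (T : Subgroup G), orderOf z = 2 ∧ ∀ s ∈ (T : Subgroup G), Commute s z := by
  haveI : Fact (Nat.Prime 2) := ⟨Nat.prime_two⟩
  obtain ⟨z, ⟨hzT, hzc⟩, hz1, hz2⟩ := PLocal.exists_central_of_order_p T.isPGroup'
    (T.ne_bot_of_dvd_card (even_iff_two_dvd.1 heven))
  exact ⟨z, hzT, orderOf_eq_prime hz2 hz1, fun s hs => mem_centralizer_iff.1 hzc s hs⟩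

theorem not_rankLE_one (hO : Cfsg.oddCore G = ⊥) (hO2 : Cfsg.pCore 2 G = ⊥)
    (heven : Even (Nat.card G)) : ¬ Cfsg.PRankLE 2 1 G := by
  intro hr
  haveI : Fact (Nat.Prime 2) := ⟨Nat.prime_two⟩
  obtain ⟨T⟩ : Nonempty (Sylow 2 G) := inferInstance
  obtain ⟨z, hzT, hz, hzc⟩ := exists_central_involution T heven
  refine not_isolated hO hO2 z ⟨hz, fun g hg => ?_⟩
  set C := centralizer ({z} : Set G) with hCdef
  have hTC : (T : Subgroup G) ≤ C := fun s hs => mem_centralizer_singleton_iff.2 (hzc s hs).eq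
  have hu : g * z * g⁻¹ ∈ C := mem_centralizer_singleton_iff.2 hg.symm.eq
  obtain ⟨c, hc⟩ := Involution.exists_conj_mem_sylow (T.subtype hTC) (t := (⟨_, hu⟩ : C))
    (by rw [Subgroup.orderOf_mk, Involution.orderOf_conj]; exact hz)
  have hcT : (c : G) * (g * z * g⁻¹) * (c : G)⁻¹ ∈ (T : Subgroup G) := mem_subgroupOf.1 hc
  set y := (c : G) * (g * z * g⁻¹) * (c : G)⁻¹ with hydef
  have hy : orderOf y = 2 := by rw [hydef, Involution.orderOf_conj, Involution.orderOf_conj]; exact hz
  have hyz : y = z := by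
    by_contra hne
    have hcomm : Commute z y := (hzc y hcT).symm
    have he := elemAb_pair (hz ▸ pow_orderOf_eq_one z) (hy ▸ pow_orderOf_eq_one y) hcomm
    have h4 := hr _ he.1 he.2
    rw [card_pair hz hy hcomm (Ne.symm hne)] at h4
    norm_num at h4
  calc g * z * g⁻¹ = (c : G)⁻¹ * y * (c : G) := by rw [hydef]; group
    _ = z := by
      rw [hyz, mul_assoc, ← mem_centralizer_singleton_iff.1 c.2, inv_mul_cancel_left]

/-- Two distinct central involutions make all four-subgroups connected. -/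
theorem isFourConnected_of_central {a b : G} (ha : orderOf a = 2) (hb : orderOf b = 2) (hne : a ≠ b)
    (hac : a ∈ Subgroup.center G) (hbc : b ∈ Subgroup.center G) : Cfsg.IsFourConnected G := by
  haveI : Fact (Nat.Prime 2) := ⟨Nat.prime_two⟩
  have hab : Commute a b := (Subgroup.mem_center_iff.1 hbc a)
  set E := zpowers a ⊔ zpowers b with hEdef
  have he := elemAb_pair (ha ▸ pow_orderOf_eq_one a) (hb ▸ pow_orderOf_eq_one b) hab
  have h4 : Nat.card E = 4 := card_pair ha hb hab hne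
  have hE : IsKleinFour E := by
    haveI : Nontrivial E := Finite.one_lt_card_iff_nontrivial.1 (by omega)
    refine ⟨h4, (Nat.dvd_prime Nat.prime_two).1 (Monoid.exponent_dvd_of_forall_pow_eq_one
      fun u => Subtype.ext (he.2 _ u.2)) |>.resolve_left fun h1 => ?_⟩
    obtain ⟨u, hu⟩ := exists_ne (1 : E)
    haveI := Monoid.exp_eq_one_iff.1 h1
    exact hu (Subsingleton.elim u 1)
  have hEc : ∀ e ∈ E, ∀ x : G, x * e = e * x := fun e he' x =>
    Subgroup.mem_center_iff.1 ((sup_le (zpowers_le.2 hac) (zpowers_le.2 hbc) : E ≤ _) he') x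
  exact fun U V hU hV => (Relation.ReflTransGen.single
    ⟨hU, hE, fun x _ e he' => hEc e he' x⟩).tail ⟨hE, hV, fun e he' x _ => (hEc e he' x).symm⟩

/-- If `Aut T` is a 2-group, a subgroup between `T` and `N(T)` has a normal 2-complement. -/
theorem complement_of_aut (T : Sylow 2 G) (haut : IsPGroup 2 (MulAut (T : Subgroup G)))
    {C : Subgroup G} (hTC : (T : Subgroup G) ≤ C)
    (hCN : C ≤ normalizer ((T : Subgroup G) : Set G)) : Cfsg.HasNormalPComplement 2 C := by
  haveI : Fact (Nat.Prime 2) := ⟨Nat.prime_two⟩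
  refine Transfer.hasNormalPComplement_of_self_control (T.subtype hTC) fun x hx g _ => ?_
  obtain ⟨β, γ, hg, -, -, ⟨k, hk⟩, hco⟩ := Transfer.exists_pPart_mul (p := 2) g
  have hγ : (γ : G) ∈ centralizer ((T : Subgroup G) : Set G) :=
    Transfer.centralizes_of_isPGroup_mulAut haut (hCN γ.2) (by rwa [Subgroup.orderOf_coe])
  have hβN : zpowers (β : G) ≤ normalizer ((T : Subgroup G) : Set G) := zpowers_le.2 (hCN β.2)
  have hp : IsPGroup 2 ↥((T : Subgroup G) ⊔ zpowers (β : G)) :=
    T.isPGroup'.to_sup_of_normal_left' (IsPGroup.of_card (n := k)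
      (by rw [Nat.card_zpowers, Subgroup.orderOf_coe, hk])) hβN
  have hβT : (β : G) ∈ (T : Subgroup G) := by
    have := T.3 hp le_sup_left
    rw [← this]
    exact mem_sup_right (mem_zpowers _)
  refine ⟨β, mem_subgroupOf.2 hβT, Subtype.ext ?_⟩
  have hxT : (x : G) ∈ (T : Subgroup G) := mem_subgroupOf.1 hx
  have hc : (x : G) * γ = γ * x := mem_centralizer_iff.1 hγ _ hxT
  rw [hg]
  push_cast
  calc (β : G) * x * (β : G)⁻¹ = β * (x * γ * (γ : G)⁻¹) * (β : G)⁻¹ := by rw [mul_inv_cancel_right]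
    _ = β * γ * x * ((β : G) * γ)⁻¹ := by rw [hc]; group

/-- With a constrained centraliser, the core of an involution centraliser balances. -/
theorem core_le_core (hC : ∀ t : G, orderOf t = 2 → Group.IsSolvable ↥(centralizer ({t} : Set G)))
    {a b : G} (ha : orderOf a = 2) (hb : orderOf b = 2) (hab : Commute a b)
    (hle : Cfsg.centralizerPPrimeCore 2 a ≤ centralizer ({b} : Set G)) :
    Cfsg.centralizerPPrimeCore 2 a ≤ Cfsg.centralizerPPrimeCore 2 b := by
  haveI : Fact (Nat.Prime 2) := ⟨Nat.prime_two⟩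
  haveI := hC b hb
  exact (le_inf le_rfl hle).trans (Signalizer.core_inf_centralizer_le_core (ha ▸ pow_orderOf_eq_one a)
    hab.eq HallHigman.isPConstrained_of_isSolvable)

end Cfsg.Agent.ZGroupReduce
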