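import Cfsg.Agent.Lib.ZGroupReduce.Basic
import Cfsg.Agent.Lib.TwoNilCent.RankTwo
import Cfsg.Agent.Lib.Transfer.SemidihedralFusion
import Cfsg.Agent.Lib.Transfer.DihedralFusion
import Cfsg.Agent.Lib.FusionRankTwo.WrAut
import Cfsg.Agent.Lib.NonComponent.Basic
import Cfsg.Agent.S0107

/-!
# A central four-group, or a unique central involution, in a Sylow 2-subgroup

* `four_case` : all involutions of `T` in a central four-group
* `qd_false`, `wr_false` : semidihedral and wreathed Sylow 2-subgroups do not occur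
* `dihedral_case` : dihedral Sylow 2-subgroups of order at least 8
-/

set_option autoImplicit false
set_option linter.style.haveILetI false

namespace Cfsg.Agent.ZGroupReduce

open Subgroup QDWreath

/-- The running hypotheses on the group `R = O²(R)`. -/
structure Hyp (R : Type*) [Group R] : Prop where
  even : Even (Nat.card R)
  oddCore : Cfsg.oddCore R = ⊥
  twoCore : Cfsg.pCore 2 R = ⊥
  no_index_two : ∀ H : Subgroup R, H.index ≠ 2
  solvable : ∀ t : R, orderOf t = 2 → Group.IsSolvable ↥(centralizer ({t} : Set R))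

variable {R : Type*} [Group R] [Finite R]

/-- The conclusions about `R`, for a central subgroup `W` of a Sylow 2-subgroup `T`. -/
def Concl (T : Sylow 2 R) (W : Subgroup R) : Prop :=
  (∃ M : Subgroup R, Cfsg.IsStronglyEmbedded M) ∨
    (Nat.card W = 4 ∧ ∀ x ∈ (T : Subgroup R), x * x = 1 → x ∈ W) ∨ Cfsg.IsCharacteristicTwoType R

/-- A central four-group containing all involutions of `T`. -/
theorem four_case (h : Hyp R) (T : Sylow 2 R) (W : Subgroup R) (hWT : W ≤ (T : Subgroup R))
    (hW2 : ∀ w ∈ W, w * w = 1) (hW1 : W ≠ ⊥)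
    (hCW : centralizer (W : Set R) ≤ normalizer ((T : Subgroup R) : Set R))
    (A : Subgroup R) (hA4 : Nat.card A = 4) (hAT : A ≤ (T : Subgroup R))
    (hmem : ∀ x ∈ (T : Subgroup R), x * x = 1 ↔ x ∈ A)
    (hcen : (T : Subgroup R) ≤ centralizer (A : Set R)) : Concl T W := by
  classical
  haveI : Fact (Nat.Prime 2) := ⟨Nat.prime_two⟩
  have hWA : W ≤ A := fun w hw => (hmem w (hWT hw)).1 (hW2 w hw)
  by_cases hWeq : W = A
  · exact Or.inr (Or.inl ⟨by rw [hWeq]; exact hA4, fun x hx hx2 => hWeq ▸ (hmem x hx).1 hx2⟩)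
  obtain ⟨a, haW, ha1⟩ := (Subgroup.bot_or_exists_ne_one W).resolve_left hW1
  have hao : ∀ {x : R}, x ∈ A → x ≠ 1 → orderOf x = 2 := fun {x} hx hx1 =>
    Involution.orderOf_of_sq ((hmem x (hAT hx)).2 hx) hx1
  have hW2' : Nat.card W = 2 := by
    have hd : Nat.card W ∣ 4 := hA4 ▸ card_dvd_of_le hWA
    have hlt : Nat.card W ≠ 4 := fun e => hWeq (eq_of_le_of_card_ge hWA (by rw [hA4, e]))
    have h2 : 1 < Nat.card W := Finite.one_lt_card_iff_nontrivial.2 ((nontrivial_iff_ne_bot W).2 hW1)
    have := Nat.le_of_dvd (by norm_num) hd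
    interval_cases hn : Nat.card W <;> omega
  have hWz : zpowers a = W := eq_of_le_of_card_ge (zpowers_le.2 haW)
    (by rw [hW2', Nat.card_zpowers, hao (hWA haW) ha1])
  set M := normalizer (A : Set R) with hMdef
  have hNT : normalizer ((T : Subgroup R) : Set R) ≤ M := fun g hg =>
    Coprime.mem_normalizer_of_forall fun x hx => by
      have hxT := (mem_normalizer_iff.1 hg x).1 (hAT hx)
      refine (hmem _ hxT).1 ?_
      rw [show g * x * g⁻¹ * (g * x * g⁻¹) = g * (x * x) * g⁻¹ by group, (hmem x (hAT hx)).2 hx]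
      group
  have hTM : (T : Subgroup R) ≤ M := le_normalizer.trans hNT
  have hCa : centralizer ({a} : Set R) ≤ M := by
    refine le_trans ?_ (hCW.trans hNT)
    rw [← hWz, zpowers_eq_closure, centralizer_closure]
  -- every element of `A#` is moved by `N(T)`
  have hcenT : ∀ x ∈ A, x ∈ centralizer ((T : Subgroup R) : Set R) := fun x hx =>
    mem_centralizer_iff.2 fun s hs => (mem_centralizer_iff.1 (hcen hs) x hx).symm
  have hmove : ∀ x ∈ A, x ≠ 1 → ∃ n ∈ M, n * x * n⁻¹ ∈ A ∧ n * x * n⁻¹ ≠ x := by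
    intro x hx hx1
    obtain ⟨g, hcomm, hne⟩ : ∃ g, Commute x (g * x * g⁻¹) ∧ g * x * g⁻¹ ≠ x := by
      by_contra hc
      push Not at hc
      exact not_isolated h.oddCore h.twoCore x ⟨hao hx hx1, hc⟩
    set C := centralizer ({x} : Set R)
    have hTC : (T : Subgroup R) ≤ C := fun s hs =>
      mem_centralizer_singleton_iff.2 (mem_centralizer_iff.1 (hcen hs) x hx).symm
    have hu : g * x * g⁻¹ ∈ C := mem_centralizer_singleton_iff.2 hcomm.symm.eq
    obtain ⟨c, hc⟩ := Involution.exists_conj_mem_sylow (T.subtype hTC) (t := (⟨_, hu⟩ : C))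
      (by rw [Subgroup.orderOf_mk, Involution.orderOf_conj]; exact hao hx hx1)
    have hcT : (c : R) * (g * x * g⁻¹) * (c : R)⁻¹ ∈ (T : Subgroup R) := mem_subgroupOf.1 hc
    set b := (c : R) * (g * x * g⁻¹) * (c : R)⁻¹ with hb
    have hbA : b ∈ A := (hmem b hcT).1 (Involution.mul_self
      (by rw [hb, Involution.orderOf_conj, Involution.orderOf_conj]; exact hao hx hx1))
    have hbx : b ≠ x := fun e => hne (by
      calc g * x * g⁻¹ = (c : R)⁻¹ * b * (c : R) := by rw [hb]; group
        _ = x := by rw [e, mul_assoc, ← mem_centralizer_singleton_iff.1 c.2, inv_mul_cancel_left])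
    obtain ⟨n, hn, he⟩ := T.conj_eq_normalizer_conj_of_mem_centralizer x ((c : R) * g)⁻¹
      (hcenT x hx) (by
        rw [inv_inv, show (c : R) * g * x * ((c : R) * g)⁻¹ = b by rw [hb]; group]
        exact hcenT b hbA)
    rw [inv_inv, show (c : R) * g * x * ((c : R) * g)⁻¹ = b by rw [hb]; group] at he
    refine ⟨n⁻¹, inv_mem (hNT hn), ?_, ?_⟩ <;> rw [inv_inv, ← he]
    · exact hbA
    · exact hbx
  have hMA : ∀ n ∈ M, ∀ x ∈ A, n * x * n⁻¹ ∈ A := fun n hn x hx =>
    (mem_normalizer_iff.1 hn x).1 hx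
  -- transitivity
  have htrans : ∀ x ∈ A, x ≠ 1 → ∀ y ∈ A, y ≠ 1 → ∃ n ∈ M, n * x * n⁻¹ = y := by
    intro x hx hx1 y hy hy1
    by_cases hxy : x = y
    · exact ⟨1, one_mem _, by rw [hxy]; group⟩
    obtain ⟨n, hn, hnA, hnx⟩ := hmove x hx hx1
    by_cases hny : n * x * n⁻¹ = y
    · exact ⟨n, hn, hny⟩
    obtain ⟨m, hm, hmA, hmy⟩ := hmove y hy hy1
    by_cases hmx : m * y * m⁻¹ = x
    · exact ⟨m⁻¹, inv_mem hm, by rw [← hmx]; group⟩
    -- both images are the third involution
    have h1 : ∀ z : R, ∀ k ∈ M, z ∈ A → z ≠ 1 → k * z * k⁻¹ ≠ 1 := fun z k _ _ hz1 e =>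
      hz1 (conj_eq_one_iff.1 e)
    haveI := Fintype.ofFinite ↥A
    have hcard : (Finset.univ : Finset ↥A).card = 4 := by
      rw [Finset.card_univ, ← Nat.card_eq_fintype_card]; exact hA4
    by_contra hcon
    have hne : n * x * n⁻¹ ≠ m * y * m⁻¹ := fun e => hcon
      ⟨m⁻¹ * n, mul_mem (inv_mem hm) hn, by
        rw [show m⁻¹ * n * x * (m⁻¹ * n)⁻¹ = m⁻¹ * (n * x * n⁻¹) * m by group, e]; group⟩
    have hle : ({1, ⟨x, hx⟩, ⟨y, hy⟩, ⟨_, hnA⟩, ⟨_, hmA⟩} : Finset ↥A).card ≤ 4 :=
      hcard ▸ Finset.card_le_card (Finset.subset_univ _)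
    rw [Finset.card_insert_of_notMem, Finset.card_insert_of_notMem, Finset.card_insert_of_notMem,
        Finset.card_insert_of_notMem, Finset.card_singleton] at hle
    · omega
    · simp [Subtype.ext_iff, hne]
    · simp [Subtype.ext_iff, Ne.symm hny, Ne.symm hmy]
    · simp [Subtype.ext_iff, hxy, Ne.symm hnx, Ne.symm hmx]
    · simp [Subtype.ext_iff, Ne.symm hx1, Ne.symm hy1, Ne.symm (h1 x n hn hx hx1),
        Ne.symm (h1 y m hm hy hy1)]
  refine Or.inl ⟨M, se_of_control T ?_ hTM h.even fun v hv hvo g hg => ?_⟩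
  · intro htop
    have hAn : A.Normal := normalizer_eq_top_iff.1 htop
    have hAle : A ≤ Cfsg.pCore 2 R := le_sSup ⟨hAn, T.isPGroup'.to_le hAT⟩
    rw [h.twoCore, le_bot_iff] at hAle
    rw [hAle, Subgroup.card_bot] at hA4
    omega
  · have hvA : v ∈ A := (hmem v hv).1 (Involution.mul_self hvo)
    have hgA : g * v * g⁻¹ ∈ A := (hmem _ hg).1
      (Involution.mul_self (by rw [Involution.orderOf_conj]; exact hvo))
    obtain ⟨p, hp, hpv⟩ := htrans a (hWA haW) ha1 v hvA (Involution.ne_one hvo)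
    obtain ⟨q, hq, hqv⟩ := htrans a (hWA haW) ha1 _ hgA
      (Involution.ne_one (by rw [Involution.orderOf_conj]; exact hvo))
    have hk : q⁻¹ * g * p ∈ centralizer ({a} : Set R) := mem_centralizer_singleton_iff.2 (by
      calc q⁻¹ * g * p * a = q⁻¹ * (g * (p * a * p⁻¹) * g⁻¹) * g * p := by group
        _ = q⁻¹ * (q * a * q⁻¹) * g * p := by rw [hpv, hqv]
        _ = a * (q⁻¹ * g * p) := by group)
    have := mul_mem (mul_mem hq (hCa hk)) (inv_mem hp)
    rwa [show q * (q⁻¹ * g * p) * p⁻¹ = g by group] at this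

/-- A unique central involution: the centraliser lies in `N(T)`. -/
theorem centralizer_le_normalizer_of_unique (T : Sylow 2 R) {W : Subgroup R}
    (hWT : W ≤ (T : Subgroup R)) (hW2 : ∀ w ∈ W, w * w = 1)
    (hWc : ∀ w ∈ W, ∀ s ∈ (T : Subgroup R), Commute s w)
    (hCW : centralizer (W : Set R) ≤ normalizer ((T : Subgroup R) : Set R))
    {u : ↥(T : Subgroup R)}
    (huniq : ∀ w : ↥(T : Subgroup R), w ∈ Subgroup.center ↥(T : Subgroup R) → w * w = 1 →
      w = 1 ∨ w = u) :
    centralizer ({(u : R)} : Set R) ≤ normalizer ((T : Subgroup R) : Set R) := by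
  refine le_trans ?_ hCW
  intro g hg
  refine mem_centralizer_iff.2 fun w hw => ?_
  have hwc : (⟨w, hWT hw⟩ : ↥(T : Subgroup R)) ∈ Subgroup.center ↥(T : Subgroup R) :=
    Subgroup.mem_center_iff.2 fun s => Subtype.ext (hWc w hw s s.2).eq
  rcases huniq _ hwc (Subtype.ext (hW2 w hw)) with e | e
  · rw [show w = 1 from congrArg Subtype.val e, one_mul, mul_one]
  · rw [show w = (u : R) from congrArg Subtype.val e]
    exact (mem_centralizer_singleton_iff.1 hg).symm

theorem sylow_le_centralizer (T : Sylow 2 R) {u : ↥(T : Subgroup R)}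
    (hu : u ∈ Subgroup.center ↥(T : Subgroup R)) :
    (T : Subgroup R) ≤ centralizer ({(u : R)} : Set R) := fun s hs =>
  mem_centralizer_singleton_iff.2 (congrArg Subtype.val (Subgroup.mem_center_iff.1 hu ⟨s, hs⟩))

variable (h : Hyp R) (T : Sylow 2 R) (W : Subgroup R) (hWT : W ≤ (T : Subgroup R))
  (hW2 : ∀ w ∈ W, w * w = 1) (hWc : ∀ w ∈ W, ∀ s ∈ (T : Subgroup R), Commute s w)
  (hCW : centralizer (W : Set R) ≤ normalizer ((T : Subgroup R) : Set R))
include h hWT hW2 hWc hCW

theorem qd_false (hT : Cfsg.IsQuasiDihedral (T : Subgroup R)) : False := by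
  obtain ⟨n, ⟨d⟩⟩ := nonempty_qdData hT
  set u := d.a (tp n (n - 1)) with hu
  have hc : u ∈ Subgroup.center ↥(T : Subgroup R) := d.mem_center.2 (Or.inr rfl)
  have hTu := sylow_le_centralizer T hc
  have hN := centralizer_le_normalizer_of_unique T hWT hW2 hWc hCW (u := u) fun w hw _ =>
    d.mem_center.1 hw
  obtain ⟨-, ⟨K, -, -, hK, hQ⟩, -⟩ :=
    Transfer.SD.centralizer_case d h.no_index_two (x := (u : R)) rfl hTu
  exact TwoNilCent.false_of_residual
    (complement_of_aut T (Transfer.SD.isPGroup_mulAut d) hTu hN) K hK hQ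

theorem wr_false (hT : Cfsg.IsWreathed (T : Subgroup R)) : False := by
  obtain ⟨n, ⟨d⟩⟩ := nonempty_wrData hT
  set u := d.a (tp n (n - 1)) (tp n (n - 1)) with hu
  have hc : u ∈ Subgroup.center ↥(T : Subgroup R) := d.mem_center.2 ⟨_, rfl⟩
  have hTu := sylow_le_centralizer T hc
  have hN := centralizer_le_normalizer_of_unique T hWT hW2 hWc hCW (u := u) fun w hw hw2 => by
    obtain ⟨i, rfl⟩ := d.mem_center.1 hw
    rw [d.a_mul_a, ← d.a_zero, d.a_inj, ← two_mul] at hw2
    have h1n : 1 ≤ n := le_trans (by norm_num) d.hn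
    rcases (two_mul_eq_zero h1n).1 hw2.1 with rfl | rfl
    · exact Or.inl d.a_zero
    · exact Or.inr rfl
  obtain ⟨-, ⟨K, -, -, hK, hQ⟩, -⟩ :=
    Transfer.WR.centralizer_case d h.no_index_two (x := (u : R)) rfl hTu
  exact TwoNilCent.false_of_residual
    (complement_of_aut T (FusionRankTwo.Wr.top_mulAut d) hTu hN) K hK hQ

theorem dihedral_case {k : ℕ} (hk : 2 ≤ k)
    (e : (T : Subgroup R) ≃* DihedralGroup (2 ^ k)) : Concl T W := by
  haveI : Fact (Nat.Prime 2) := ⟨Nat.prime_two⟩
  haveI : NeZero (2 ^ k) := ⟨by positivity⟩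
  have haut : IsPGroup 2 (MulAut (T : Subgroup R)) := by
    rcases Transfer.klein_or_isPGroup_mulAut T (m := 2 ^ k) (by positivity) e le_rfl with hh | hh
    · exact hh
    · have h4 := hh.card_four
      rw [Nat.card_congr e.toEquiv, DihedralGroup.nat_card] at h4
      have := Nat.pow_le_pow_right two_pos hk
      omega
  set u := e.symm (DihedralGroup.r (tp k (k - 1))) with hudef
  have h1k : 1 ≤ k := by omega
  have hhalf : tp k (k - 1) + tp k (k - 1) = 0 := by
    rw [← two_mul]; exact (two_mul_eq_zero h1k).2 (Or.inr rfl)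
  have h2ne : ((2 : ℕ) : ZMod (2 ^ k)) ≠ 0 := by
    rw [Ne, ZMod.natCast_eq_zero_iff]
    intro hd
    have := Nat.le_of_dvd two_pos hd
    have := Nat.pow_le_pow_right two_pos hk
    omega
  have hcen : ∀ g : DihedralGroup (2 ^ k), (∀ x, x * g = g * x) → g * g = 1 →
      g = 1 ∨ g = DihedralGroup.r (tp k (k - 1)) := by
    intro g hg hg2
    cases g with
    | r i =>
      rw [DihedralGroup.r_mul_r, DihedralGroup.one_def] at hg2
      have hi := DihedralGroup.r.inj hg2
      rw [← two_mul] at hi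
      rcases (two_mul_eq_zero h1k).1 hi with rfl | rfl
      · exact Or.inl DihedralGroup.one_def.symm
      · exact Or.inr rfl
    | sr i =>
      have h3 := hg (DihedralGroup.r 1)
      rw [DihedralGroup.r_mul_sr, DihedralGroup.sr_mul_r] at h3
      have h4 := DihedralGroup.sr.inj h3
      exact absurd (by push_cast; linear_combination -h4) h2ne
  have hc : u ∈ Subgroup.center ↥(T : Subgroup R) := by
    refine Subgroup.mem_center_iff.2 fun x => e.injective ?_
    rw [map_mul, map_mul, hudef, MulEquiv.apply_symm_apply]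
    generalize e x = y
    cases y with
    | r i => rw [DihedralGroup.r_mul_r, DihedralGroup.r_mul_r, add_comm]
    | sr i =>
      rw [DihedralGroup.sr_mul_r, DihedralGroup.r_mul_sr]
      exact congrArg _ (by linear_combination hhalf)
  have huo : orderOf (u : R) = 2 := by
    rw [Subgroup.orderOf_coe, hudef, MulEquiv.orderOf_eq]
    refine Involution.orderOf_of_sq (by rw [DihedralGroup.r_mul_r, hhalf]; rfl) fun e1 => ?_
    rw [DihedralGroup.one_def] at e1
    exact tp_ne_zero k (k - 1) (by omega) (DihedralGroup.r.inj e1)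
  have hTu := sylow_le_centralizer T hc
  have hN := centralizer_le_normalizer_of_unique T hWT hW2 hWc hCW (u := u) fun w hw hw2 => by
    rcases hcen (e w) (fun x => by
      obtain ⟨y, rfl⟩ := e.surjective x
      rw [← map_mul, ← map_mul, Subgroup.mem_center_iff.1 hw y]) (by rw [← map_mul, hw2, map_one]) with
      h' | h'
    · exact Or.inl (e.injective (h'.trans e.map_one.symm))
    · exact Or.inr (by rw [hudef, ← h', MulEquiv.symm_apply_apply])
  set z : R := (u : R) with hzdef
  set K := Cfsg.centralizerPPrimeCore 2 z with hKdef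
  have hKT : K ≤ centralizer ((T : Subgroup R) : Set R) := fun x hx =>
    Transfer.centralizes_of_isPGroup_mulAut haut (hN (Signalizer.core_le_centralizer z hx))
      (((Nat.prime_two.coprime_iff_not_dvd).2 (Signalizer.not_dvd_card_core z)).symm.coprime_dvd_left
        (orderOf_dvd_natCard K hx))
  have hres : Cfsg.pResidual 2 R = ⊤ := by
    by_contra hne
    obtain ⟨H, hH⟩ := Transfer.exists_index_two_iff.2 hne
    exact h.no_index_two H hH
  have hone : ∀ v : R, orderOf v = 2 → ∃ g : R, g * z * g⁻¹ = v := fun v hv =>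
    S0107.result T k hk ⟨e⟩ hres z v huo hv
  have heq : ∀ v ∈ (T : Subgroup R), orderOf v = 2 → Cfsg.centralizerPPrimeCore 2 v = K := by
    intro v hv hvo
    have hzv : Commute z v := (mem_centralizer_singleton_iff.1 (hTu hv)).symm
    have hle := core_le_core h.solvable huo hvo hzv fun x hx =>
      mem_centralizer_singleton_iff.2 (mem_centralizer_iff.1 (hKT hx) v hv).symm
    obtain ⟨g, rfl⟩ := hone v hvo
    refine (eq_of_le_of_card_ge hle (le_of_eq ?_)).symm
    rw [← Signalizer.map_conj_centralizerPPrimeCore, card_map_of_injective (MulAut.conj g).injective]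
  have hctrl : ∀ v ∈ (T : Subgroup R), orderOf v = 2 →
      ∀ g : R, g * v * g⁻¹ ∈ (T : Subgroup R) → g ∈ normalizer (K : Set R) := by
    intro v hv hvo g hg
    have hmap : K.map (MulAut.conj g).toMonoidHom = K := by
      conv_lhs => rw [← heq v hv hvo]
      rw [Signalizer.map_conj_centralizerPPrimeCore]
      exact heq _ hg (by rw [Involution.orderOf_conj]; exact hvo)
    refine Coprime.mem_normalizer_of_forall fun x hx => ?_
    rw [← hmap]
    exact ⟨x, hx, rfl⟩
  by_cases htop : normalizer (K : Set R) = ⊤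
  · have hKn : K.Normal := normalizer_eq_top_iff.1 htop
    have hK : K = ⊥ := le_bot_iff.1 (h.oddCore ▸ le_sSup ⟨hKn,
      ((Nat.prime_two.coprime_iff_not_dvd).2 (Signalizer.not_dvd_card_core z)).symm⟩)
    refine Or.inr (Or.inr (NonComponent.isCharacteristicTwoType_of_cores_trivial h.even
      (not_isComponentType h.solvable) fun t ht => ?_))
    obtain ⟨g, rfl⟩ := hone t ht
    rw [← Signalizer.map_conj_centralizerPPrimeCore, ← hKdef, hK, Subgroup.map_bot]
  · refine Or.inl ⟨_, se_of_control T htop ?_ h.even hctrl⟩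
    exact fun s hs => centralizer_le_normalizer _ (mem_centralizer_iff.2 fun x hx =>
      (mem_centralizer_iff.1 (hKT hx) s hs).symm)

end Cfsg.Agent.ZGroupReduce
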