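import Cfsg.Agent.Lib.Fixity.TwoGroup
import Cfsg.Agent.Lib.Involution.StronglyEmbedded
import Mathlib.GroupTheory.Perm.Fin

/-!
# A maximal 2-local `S₄`

`sylow_of_maximal_s4` : a group with a maximal 2-local subgroup isomorphic to `S₄` has dihedral or
semidihedral Sylow 2-subgroups.
-/

set_option autoImplicit false
set_option linter.style.haveILetI false

namespace Cfsg.Agent.ZGroupReduce

open Subgroup

theorem s4_two_normal : ∀ u : Equiv.Perm (Fin 4),
    (∀ g : Equiv.Perm (Fin 4), (u * (g * u * g⁻¹)) ^ 8 = 1) → u ^ 8 = 1 →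
      u = 1 ∨ (u * u = 1 ∧ ∀ i, u i ≠ i) := by
  decide +kernel

theorem s4_transitive : ∀ u v : Equiv.Perm (Fin 4), u * u = 1 → (∀ i, u i ≠ i) →
    (v = 1 ∨ (v * v = 1 ∧ ∀ i, v i ≠ i)) → v = 1 ∨ ∃ g : Equiv.Perm (Fin 4), g * u * g⁻¹ = v := by
  decide +kernel

theorem s4_centralizer : ∀ g : Equiv.Perm (Fin 4),
    (∀ v : Equiv.Perm (Fin 4), v * v = 1 → (∀ i, v i ≠ i) → g * v = v * g) →
      g = 1 ∨ (g * g = 1 ∧ ∀ i, g i ≠ i) := by
  decide +kernel

theorem s4_card : Fintype.card {v : Equiv.Perm (Fin 4) // v = 1 ∨ (v * v = 1 ∧ ∀ i, v i ≠ i)} = 4 := by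
  decide +kernel

/-- A normal nontrivial 2-subgroup of `S₄` is the self-centralising four-group. -/
theorem s4_normal_two (U : Subgroup (Equiv.Perm (Fin 4))) (hn : U.Normal) (hU : IsPGroup 2 U)
    (hne : U ≠ ⊥) : Nat.card U = 4 ∧ centralizer (U : Set (Equiv.Perm (Fin 4))) ≤ U ∧
      ∀ u ∈ U, u * u = 1 := by
  have h8 : ∀ x ∈ U, x ^ 8 = 1 := by
    intro x hx
    haveI : Fact (Nat.Prime 2) := ⟨Nat.prime_two⟩
    obtain ⟨n, hn'⟩ := hU.exists_card_eq
    have hdvd : (2 : ℕ) ^ n ∣ 24 := by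
      rw [← hn']
      have := card_subgroup_dvd_card U
      rwa [Nat.card_perm, Nat.card_fin] at this
    have hn3 : n ≤ 3 := by
      by_contra hc
      have := (Nat.pow_dvd_pow 2 (show 4 ≤ n by omega)).trans hdvd
      norm_num at this
    exact orderOf_dvd_iff_pow_eq_one.1 ((orderOf_dvd_natCard U hx).trans
      (hn' ▸ (Nat.pow_dvd_pow 2 hn3).trans (dvd_refl 8)))
  have hiff : ∀ v, v ∈ U ↔ (v = 1 ∨ (v * v = 1 ∧ ∀ i, v i ≠ i)) := by
    have hfw : ∀ v ∈ U, v = 1 ∨ (v * v = 1 ∧ ∀ i, v i ≠ i) := fun v hv =>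
      s4_two_normal v (fun g => h8 _ (mul_mem hv (hn.conj_mem v hv g))) (h8 v hv)
    obtain ⟨u, hu, hu1⟩ := (Subgroup.bot_or_exists_ne_one U).resolve_left hne
    refine fun v => ⟨hfw v, fun hv => ?_⟩
    obtain ⟨h2, hfix⟩ := (hfw u hu).resolve_left hu1
    rcases s4_transitive u v h2 hfix hv with rfl | ⟨g, rfl⟩
    · exact one_mem U
    · exact hn.conj_mem u hu g
  refine ⟨?_, fun g hg => (hiff g).2 (s4_centralizer g fun v hv hf => ?_), fun u hu => ?_⟩
  · rw [Nat.card_congr (Equiv.subtypeEquivRight hiff), Nat.card_eq_fintype_card, s4_card]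
  · exact (mem_centralizer_iff.1 hg v ((hiff v).2 (Or.inr ⟨hv, hf⟩))).symm
  · rcases (hiff u).1 hu with rfl | ⟨h, -⟩
    · exact mul_one 1
    · exact h

variable {R : Type*} [Group R] [Finite R]

/-- A maximal 2-local subgroup isomorphic to `S₄` gives dihedral or semidihedral Sylow subgroups. -/
theorem sylow_of_maximal_s4 {M : Subgroup R} (hM : Cfsg.IsMaximalTwoLocal M)
    (e : M ≃* Equiv.Perm (Fin 4)) (T : Sylow 2 R) :
    (∃ n : ℕ, 2 ≤ n ∧ Nonempty ((T : Subgroup R) ≃* DihedralGroup n)) ∨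
      Cfsg.IsQuasiDihedral (T : Subgroup R) := by
  haveI : Fact (Nat.Prime 2) := ⟨Nat.prime_two⟩
  obtain ⟨⟨V, hVp, hV1, rfl⟩, -⟩ := hM
  set M := normalizer (V : Set R)
  have hVM : V ≤ M := le_normalizer
  set V' := (V.subgroupOf M).map e.toMonoidHom with hV'
  have hn : V'.Normal := (Subgroup.normal_in_normalizer).map _ e.surjective
  have hne : V' ≠ ⊥ := by
    rw [hV', Ne, map_eq_bot_iff_of_injective _ (f := e.toMonoidHom) e.injective, subgroupOf_eq_bot,
      disjoint_iff, inf_eq_left.2 hVM]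
    exact hV1
  obtain ⟨h4, hcen, hsq⟩ := s4_normal_two V' hn ((hVp.comap_subtype (K := M)).map _) hne
  have hV4 : Nat.card V = 4 := by
    rw [← h4, hV', card_map_of_injective e.injective,
      Nat.card_congr (Subgroup.subgroupOfEquivOfLe hVM).toEquiv]
  have hVsq : ∀ v ∈ V, v * v = 1 := by
    intro v hv
    have := hsq (e ⟨v, hVM hv⟩) ⟨_, mem_subgroupOf.2 hv, rfl⟩
    rw [← map_mul, ← map_one e] at this
    exact congrArg Subtype.val (e.injective this)
  have hVself : centralizer (V : Set R) ≤ V := by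
    intro g hg
    have hgM : g ∈ M := centralizer_le_normalizer _ hg
    have h1 : e ⟨g, hgM⟩ ∈ V' := hcen (mem_centralizer_iff.2 (by
      rintro _ ⟨v, hv, rfl⟩
      rw [MulEquiv.coe_toMonoidHom, ← map_mul, ← map_mul]
      exact congrArg e (Subtype.ext (mem_centralizer_iff.1 hg _ (mem_subgroupOf.1 hv)))))
    obtain ⟨v, hv, hve⟩ := h1
    have hvv : v = ⟨g, hgM⟩ := e.injective hve
    subst hvv
    exact mem_subgroupOf.1 hv
  obtain ⟨P, hP⟩ := hVp.exists_le_sylow
  obtain ⟨eTP⟩ : Nonempty ((T : Subgroup R) ≃* (P : Subgroup R)) := ⟨Sylow.equiv T P⟩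
  suffices h : (∃ n : ℕ, 2 ≤ n ∧ Nonempty ((P : Subgroup R) ≃* DihedralGroup n)) ∨
      Cfsg.IsQuasiDihedral (P : Subgroup R) by
    rcases h with ⟨n, hn, ⟨f⟩⟩ | ⟨n, hn, hc, x, y, hx, hy, hr⟩
    · exact Or.inl ⟨n, hn, ⟨eTP.trans f⟩⟩
    · refine Or.inr ⟨n, hn, (Nat.card_congr eTP.toEquiv).trans hc, eTP.symm x, eTP.symm y,
        (MulEquiv.orderOf_eq _ _).trans hx, (MulEquiv.orderOf_eq _ _).trans hy, ?_⟩
      rw [← map_inv, ← map_mul, ← map_mul, ← map_pow, hr]
  -- `P` has order at least eight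
  have h8 : 8 ≤ Nat.card (P : Subgroup R) := by
    refine Nat.le_of_dvd Nat.card_pos ?_
    rw [show (8 : ℕ) = 2 ^ 3 by norm_num]
    refine P.pow_dvd_card_of_pow_dvd_card ?_
    refine dvd_trans ?_ (card_subgroup_dvd_card M)
    rw [Nat.card_congr e.toEquiv, Nat.card_perm, Nat.card_fin]
    decide
  -- an involution with centraliser `V`
  haveI : Nontrivial (P : Subgroup R) := Finite.one_lt_card_iff_nontrivial.1 (by omega)
  haveI := P.isPGroup'.center_nontrivial
  obtain ⟨w, hw⟩ := exists_ne (1 : Subgroup.center (P : Subgroup R))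
  have hwV : ((w : (P : Subgroup R)) : R) ∈ V := hVself (mem_centralizer_iff.2 fun v hv =>
    congrArg Subtype.val (Subgroup.mem_center_iff.1 w.2 ⟨v, hP hv⟩))
  set z : R := ((w : (P : Subgroup R)) : R) with hz
  have hz1 : z ≠ 1 := fun h => hw (Subtype.ext (Subtype.ext h))
  obtain ⟨u, huV, huz⟩ : ∃ u ∈ V, u ∉ zpowers z := SetLike.not_le_iff_exists.1 fun hle => by
    have := card_le_of_le hle
    rw [hV4, Nat.card_zpowers, orderOf_eq_prime (p := 2) (by rw [pow_two]; exact hVsq z hwV) hz1] at this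
    omega
  have hu1 : u ≠ 1 := fun h => huz (h ▸ one_mem _)
  have huo : orderOf u = 2 := orderOf_eq_prime (by rw [pow_two]; exact hVsq u huV) hu1
  have hzu : zpowers z ⊔ zpowers u = V := by
    refine eq_of_le_of_card_ge (sup_le (zpowers_le.2 hwV) (zpowers_le.2 huV)) ?_
    rw [hV4]
    have hlt : Nat.card (zpowers z) < Nat.card ↥(zpowers z ⊔ zpowers u) := by
      by_contra hc
      exact huz ((eq_of_le_of_card_ge le_sup_left (not_lt.1 hc)).ge (mem_sup_right (mem_zpowers u)))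
    have hd : Nat.card ↥(zpowers z ⊔ zpowers u) ∣ 4 :=
      hV4 ▸ card_dvd_of_le (sup_le (zpowers_le.2 hwV) (zpowers_le.2 huV))
    rw [Nat.card_zpowers, orderOf_eq_prime (p := 2) (by rw [pow_two]; exact hVsq z hwV) hz1] at hlt
    have := Nat.le_of_dvd (by norm_num) hd
    interval_cases hn : Nat.card ↥(zpowers z ⊔ zpowers u) <;> omega
  have hC : Nat.card (centralizer ({(⟨u, hP huV⟩ : (P : Subgroup R))} : Set (P : Subgroup R))) ≤ 4 := by
    rw [← hV4, ← Subgroup.card_map_of_injective (P : Subgroup R).subtype_injective]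
    refine card_le_of_le ?_
    rintro _ ⟨x, hx, rfl⟩
    refine hVself ?_
    rw [← hzu, zpowers_eq_closure, zpowers_eq_closure, ← Subgroup.closure_union, centralizer_closure,
      mem_centralizer_iff]
    rintro v (rfl | rfl)
    · exact (congrArg Subtype.val (Subgroup.mem_center_iff.1 w.2 x)).symm
    · exact (congrArg Subtype.val (mem_centralizer_singleton_iff.1 hx)).symm
  rcases Fixity.dihedral_or_quasiDihedral P.isPGroup' h8
    (by rw [Subgroup.orderOf_mk]; exact huo) hC with ⟨n, ⟨f⟩⟩ | h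
  · refine Or.inl ⟨n, ?_, ⟨f⟩⟩
    have := Nat.card_congr f.toEquiv
    rw [DihedralGroup.nat_card] at this
    omega
  · exact Or.inr h

/-- Strong embedding is invariant under isomorphism. -/
theorem se_congr {A B : Type*} [Group A] [Finite A] [Group B] [Finite B] (e : A ≃* B)
    {K : Subgroup A} (hK : Cfsg.IsStronglyEmbedded K) :
    Cfsg.IsStronglyEmbedded (K.comap e.symm.toMonoidHom) := by
  obtain ⟨h1, h2, h3⟩ := Involution.isStronglyEmbedded_iff_forall.1 hK
  refine Involution.isStronglyEmbedded_iff_forall.2 ⟨fun h => h1 (eq_top_iff.2 fun a _ => ?_), ?_, ?_⟩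
  · have : e a ∈ K.comap e.symm.toMonoidHom := h ▸ mem_top _
    simpa using this
  · rw [Nat.card_congr (Equiv.subtypeEquiv e.symm.toEquiv fun b => Iff.rfl :
      {b // b ∈ K.comap e.symm.toMonoidHom} ≃ {a // a ∈ K})]
    exact h2
  · intro g t ht htK hg
    refine h3 (e.symm g) (e.symm t) (by rwa [MulEquiv.orderOf_eq]) htK ?_
    rw [← map_inv, ← map_mul, ← map_mul]
    exact hg

end Cfsg.Agent.ZGroupReduce
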