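import Cfsg.Agent.Lib.ZGroupReduce.Main
import Cfsg.Agent.Lib.ZGroupReduce.SFour
import Cfsg.Agent.S0518

/-!
# The N-group form of the reduction

`conclusion_of_two_local` : with all 2-locals solvable, characteristic two type gives a strongly
embedded subgroup or a dihedral or semidihedral Sylow 2-subgroup in `O²(G)` (S3758).
-/

set_option autoImplicit false
set_option linter.style.haveILetI false

namespace Cfsg.Agent.ZGroupReduce

open Subgroup

variable {G : Type*} [Group G] [Finite G]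

theorem centralizer_eq_normalizer_zpowers {t : G} (ht : orderOf t = 2) :
    centralizer ({t} : Set G) = normalizer (zpowers t : Set G) := by
  refine le_antisymm ?_ fun g hg => ?_
  · rw [zpowers_eq_closure, ← centralizer_closure]
    exact centralizer_le_normalizer _
  · have h := (mem_normalizer_iff.1 hg t).1 (mem_zpowers t)
    rcases mem_zpowers_of_orderOf_two ht h with e | e
    · exact absurd (conj_eq_one_iff.1 e) (Involution.ne_one ht)
    · exact mem_centralizer_singleton_iff.2 (mul_inv_eq_iff_eq_mul.1 e)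

theorem solvable_centralizer (hN : ∀ L : Subgroup G, Cfsg.IsTwoLocal L → Group.IsSolvable L)
    (t : G) (ht : orderOf t = 2) : Group.IsSolvable ↥(centralizer ({t} : Set G)) := by
  rw [centralizer_eq_normalizer_zpowers ht]
  refine hN _ ⟨zpowers t, IsPGroup.of_card (n := 1) (by rw [Nat.card_zpowers, ht, pow_one]), ?_, rfl⟩
  rw [Ne, zpowers_eq_bot]
  exact Involution.ne_one ht

/-- `C_G(O²(G)) = 1`. -/
theorem centralizer_pResidual_eq_bot (hO' : Cfsg.oddCore G = ⊥) (hO : Cfsg.pCore 2 G = ⊥) :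
    centralizer (Cfsg.pResidual 2 G : Set G) = ⊥ := by
  haveI : Fact (Nat.Prime 2) := ⟨Nat.prime_two⟩
  set R := Cfsg.pResidual 2 G with hR
  haveI : R.Normal := Transfer.pResidual_normal
  set C := centralizer (R : Set G) with hC
  have hdisj : C ⊓ R = ⊥ := by
    refine (Subgroup.eq_bot_iff_forall _).2 fun x hx => ?_
    by_contra hx1
    obtain ⟨p, hp, hpd⟩ := Nat.exists_prime_and_dvd (n := orderOf x)
      (fun h => hx1 (orderOf_eq_one_iff.1 h))
    set y := x ^ (orderOf x / p) with hy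
    have hyo : orderOf y = p := orderOf_pow_orderOf_div (orderOf_pos x).ne' hpd
    have hyC : y ∈ C := pow_mem hx.1 _
    have hyR : y ∈ R := pow_mem hx.2 _
    have hn : (zpowers (⟨y, hyR⟩ : R)).Normal := ⟨fun a ha b => by
      obtain ⟨i, rfl⟩ := mem_zpowers_iff.1 ha
      have hc : Commute b (⟨y, hyR⟩ : R) := Subtype.ext (mem_centralizer_iff.1 hyC b b.2)
      rw [(hc.zpow_right i).eq, mul_inv_cancel_right]
      exact zpow_mem (mem_zpowers _) i⟩
    have hcard : Nat.card (zpowers (⟨y, hyR⟩ : R)) = p := by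
      rw [Nat.card_zpowers, Subgroup.orderOf_mk, hyo]
    have hne : zpowers (⟨y, hyR⟩ : R) ≠ ⊥ := fun e => by
      rw [e, Subgroup.card_bot] at hcard
      exact hp.ne_one hcard.symm
    by_cases hp2 : p = 2
    · refine hne (le_bot_iff.1 (le_trans
        (show _ ≤ Cfsg.pCore 2 ↥R from le_sSup ⟨hn, IsPGroup.of_card (n := 1) ?_⟩)
        (no_two_of_pResidual hO).le))
      rw [hcard, hp2, pow_one]
    · refine hne (le_bot_iff.1 (le_trans
        (show _ ≤ Cfsg.oddCore ↥R from le_sSup ⟨hn, ?_⟩) (no_odd_of_pResidual hO').le))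
      rw [hcard]
      exact (Nat.coprime_primes hp Nat.prime_two).2 hp2
  have hinj : Function.Injective ((QuotientGroup.mk' R).comp C.subtype) := by
    refine (injective_iff_map_eq_one _).2 fun x hx => Subtype.ext ?_
    have h : (x : G) ∈ C ⊓ R := ⟨x.2, (QuotientGroup.eq_one_iff (x : G)).1 hx⟩
    rw [hdisj, Subgroup.mem_bot] at h
    exact h
  haveI : C.Normal := inferInstance
  exact le_bot_iff.1 (hO ▸ le_sSup ⟨inferInstance,
    Transfer.isPGroup_quotient_pResidual.of_injective _ hinj⟩)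

variable (hN : ∀ L : Subgroup G, Cfsg.IsTwoLocal L → Group.IsSolvable L)
  (hZ : ∀ S : Sylow 2 G, centralizer (wCentre S : Set G) ≤ normalizer ((S : Subgroup G) : Set G))
  (hO' : Cfsg.oddCore G = ⊥) (hO : Cfsg.pCore 2 G = ⊥) (S : Sylow 2 G)
include hN hZ hO' hO

/-- Characteristic two type: strong embedding or a dihedral or semidihedral Sylow 2-subgroup. -/
theorem conclusion_of_two_local
    (hchar : Cfsg.IsCharacteristicTwoType ↥(Cfsg.pResidual 2 G ⊔ wCentre S)) :
    (∃ M : Subgroup ↥(Cfsg.pResidual 2 G), Cfsg.IsStronglyEmbedded M) ∨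
      ((∃ n : ℕ, 2 ≤ n ∧
          Nonempty (↥((S : Subgroup G) ⊓ Cfsg.pResidual 2 G) ≃* DihedralGroup n)) ∨
        Cfsg.IsQuasiDihedral ↥((S : Subgroup G) ⊓ Cfsg.pResidual 2 G)) := by
  haveI : Fact (Nat.Prime 2) := ⟨Nat.prime_two⟩
  haveI := Transfer.pResidual_normal (p := 2) (G := G)
  set R := Cfsg.pResidual 2 G with hR
  set W := wCentre S with hW
  set H := R ⊔ W with hH
  have hRH : R ≤ H := le_sup_left
  -- `O₂(H) = 1`
  have hHO : Cfsg.pCore 2 ↥H = ⊥ := by
    refine (Subgroup.eq_bot_iff_forall _).2 fun x hx => ?_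
    set N := Cfsg.pCore 2 ↥H
    haveI : N.Normal := Cores.pCore_normal 2 _
    have hNR : N.comap (Subgroup.inclusion hRH) = ⊥ := le_bot_iff.1 (le_trans
      (show _ ≤ Cfsg.pCore 2 ↥R from le_sSup ⟨inferInstance,
        (Cores.isPGroup_pCore 2 _).comap_of_injective _ (Subgroup.inclusion_injective _)⟩)
      (no_two_of_pResidual hO).le)
    have hxC : (x : G) ∈ centralizer (R : Set G) := mem_centralizer_iff.2 fun r hr => by
      set r' : H := ⟨r, hRH hr⟩
      have hcR : r * x * r⁻¹ * (x : G)⁻¹ ∈ R := by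
        rw [show r * (x : G) * r⁻¹ * (x : G)⁻¹ = r * ((x : G) * r⁻¹ * (x : G)⁻¹) by group]
        exact R.mul_mem hr ((inferInstance : R.Normal).conj_mem _ (R.inv_mem hr) x)
      have h1 : (⟨_, hcR⟩ : R) ∈ N.comap (Subgroup.inclusion hRH) :=
        N.mul_mem ((inferInstance : N.Normal).conj_mem x hx r') (N.inv_mem hx)
      rw [hNR, Subgroup.mem_bot] at h1
      have h2 : r * x * r⁻¹ * (x : G)⁻¹ = 1 := congrArg Subtype.val h1
      exact mul_inv_eq_iff_eq_mul.1 (mul_inv_eq_one.1 h2)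
    rw [centralizer_pResidual_eq_bot hO' hO, Subgroup.mem_bot] at hxC
    exact Subtype.ext hxC
  -- 2-locals of `H`
  have hHN : ∀ L : Subgroup H, Cfsg.IsTwoLocal L → Group.IsSolvable L := by
    rintro L ⟨U, hU, hU1, rfl⟩
    haveI := hN _ ⟨U.map H.subtype, hU.map _,
      fun e => hU1 ((map_eq_bot_iff_of_injective _ H.subtype_injective).1 e), rfl⟩
    refine Group.isSolvable_of_isSolvable_injective
      (f := ((H.subtype.comp (normalizer (U : Set H)).subtype).codRestrict
        (normalizer ((U.map H.subtype : Subgroup G) : Set G)) fun g =>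
          le_normalizer_map H.subtype ⟨g, g.2, rfl⟩)) fun a b h => ?_
    exact Subtype.ext (Subtype.ext (congrArg (fun q : ↥(normalizer ((U.map H.subtype : Subgroup G) : Set G)) => (q : G)) h))
  -- the hypothesis on Sylow 2-subgroups of `H`
  obtain ⟨Q₀, hQ₀⟩ := sylow_sup S
  have hHZ : ∀ Q : Sylow 2 H,
      centralizer {z : H | z ∈ (Q : Subgroup H) ∧ z ^ 2 = 1 ∧
          ∀ s ∈ (Q : Subgroup H), s * z = z * s} ≤ normalizer ((Q : Subgroup H) : Set H) := by
    intro Q g hg
    obtain ⟨h, hh⟩ := MulAction.exists_smul_eq H Q₀ Q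
    have hQiff : ∀ x : H, x ∈ (Q : Subgroup H) ↔ ((h⁻¹ * x * h : H) : G) ∈ (S : Subgroup G) := by
      intro x
      rw [← mem_subgroupOf, ← hQ₀, ← hh, Sylow.coe_subgroup_smul, Subgroup.mem_pointwise_smul_iff_inv_smul_mem,
        ← map_inv, MulAut.smul_def, MulAut.conj_apply, inv_inv]
    have hk : ((h⁻¹ * g * h : H) : G) ∈ centralizer (W : Set G) := mem_centralizer_iff.2 fun w hw => by
      have hwH : w ∈ H := mem_sup_right hw
      set v : H := h * ⟨w, hwH⟩ * h⁻¹ with hv
      have hv' : h⁻¹ * v * h = ⟨w, hwH⟩ := by rw [hv]; group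
      have hmem : v ∈ {z : H | z ∈ (Q : Subgroup H) ∧ z ^ 2 = 1 ∧
          ∀ s ∈ (Q : Subgroup H), s * z = z * s} := by
        refine ⟨(hQiff v).2 (by rw [hv']; exact wCentre_le S hw), ?_, fun s hs => ?_⟩
        · rw [hv, conj_pow, pow_two, show (⟨w, hwH⟩ : H) * ⟨w, hwH⟩ = 1 from
            Subtype.ext (wCentre_sq S hw), mul_one, mul_inv_cancel]
        · have hc : (h⁻¹ * s * h) * (⟨w, hwH⟩ : H) = ⟨w, hwH⟩ * (h⁻¹ * s * h) :=
            Subtype.ext (wCentre_comm S hw ((hQiff s).1 hs)).eq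
          calc s * v = h * ((h⁻¹ * s * h) * ⟨w, hwH⟩) * h⁻¹ := by rw [hv]; group
            _ = h * (⟨w, hwH⟩ * (h⁻¹ * s * h)) * h⁻¹ := by rw [hc]
            _ = v * s := by rw [hv]; group
      have hgv := mem_centralizer_iff.1 hg v hmem
      have hcc : (⟨w, hwH⟩ : H) * (h⁻¹ * g * h) = (h⁻¹ * g * h) * ⟨w, hwH⟩ := by
        calc (⟨w, hwH⟩ : H) * (h⁻¹ * g * h) = h⁻¹ * (v * g) * h := by rw [hv]; group
          _ = h⁻¹ * (g * v) * h := by rw [hgv]
          _ = (h⁻¹ * g * h) * ⟨w, hwH⟩ := by rw [hv]; group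
      exact congrArg Subtype.val hcc
    refine Coprime.mem_normalizer_of_forall fun x hx => (hQiff _).2 ?_
    have := (mem_normalizer_iff.1 (hZ S hk) _).1 ((hQiff x).1 hx)
    rw [← coe_inv, ← coe_mul, ← coe_mul] at this
    rwa [show h⁻¹ * g * h * (h⁻¹ * x * h) * (h⁻¹ * g * h)⁻¹ = h⁻¹ * (g * x * g⁻¹) * h by group] at this
  -- `O²(H) = R`
  set R₁ := Cfsg.pResidual 2 ↥H with hR₁
  have hR₁cl : R₁ = Subgroup.closure {g : H | Odd (orderOf g)} := by
    rw [hR₁, Cfsg.pResidual]
    congr 1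
    ext g
    exact Nat.coprime_two_right
  have hmap : R₁.map H.subtype = R := by
    rw [hR₁, Transfer.map_pResidual_subtype]
    refine le_antisymm ((closure_le _).2 fun g hg => Transfer.mem_pResidual_of_coprime hg.2)
      ((closure_le _).2 fun g hg => subset_closure
        ⟨hRH (Transfer.mem_pResidual_of_coprime hg), hg⟩)
  let e : ↥R₁ ≃* ↥R := (R₁.equivMapOfInjective H.subtype H.subtype_injective).trans
    (MulEquiv.subgroupCongr hmap)
  rcases S0518.result hchar hHO hHN hHZ R₁ hR₁cl with ⟨K, hK⟩ | ⟨M₁, -, -, hM₁, -, ⟨f⟩, -, -⟩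
  · left
    obtain ⟨t, htK, ht⟩ := Involution.exists_involution_mem (H := K) hK.2.1
    obtain ⟨Q, hQ⟩ := (IsPGroup.of_card (n := 1)
      (by rw [Nat.card_zpowers, ht, pow_one]) : IsPGroup 2 (zpowers t)).exists_le_sylow
    have hQK := Involution.sylow_le hK Q ht (hQ (mem_zpowers t)) htK
    have hR₁n : R₁.Normal := Transfer.pResidual_normal
    have hev : Even (Nat.card R₁) := by
      rw [Nat.card_congr e.toEquiv]
      refine even_pResidual ?_ hO' hO
      exact even_iff_two_dvd.2 (dvd_trans (even_iff_two_dvd.1 hchar.1) (card_subgroup_dvd_card H))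
    obtain ⟨r, hrR, hr⟩ := Involution.exists_involution_mem (H := R₁) hev
    obtain ⟨c, hc⟩ := Involution.exists_conj_mem_sylow Q hr
    have hnle : ¬ R₁ ≤ K := fun hle => hK.1 (top_le_iff.1
      ((Transfer.sylow_sup_eq_top Q).ge.trans (sup_le hQK hle)))
    exact ⟨_, se_congr e (Involution.isStronglyEmbedded_inter hK R₁ hnle
      (t := c * r * c⁻¹) (by rw [Involution.orderOf_conj]; exact hr) (hR₁n.conj_mem r hrR c)
      (hQK hc))⟩
  · right
    obtain ⟨T, hT⟩ := sylow_inf_pResidual S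
    let eT : ↥((S : Subgroup G) ⊓ R) ≃* (T : Subgroup R) :=
      (Subgroup.subgroupOfEquivOfLe (inf_le_right : (S : Subgroup G) ⊓ R ≤ R)).symm.trans
        (MulEquiv.subgroupCongr (by rw [hT, inf_subgroupOf_right]))
    obtain ⟨T₁⟩ : Nonempty (Sylow 2 R₁) := inferInstance
    let eT₁ : (T : Subgroup R) ≃* (T₁ : Subgroup R₁) :=
      (Sylow.equiv T (T₁.mapSurjective (f := e.toMonoidHom) e.surjective)).trans
        ((T₁ : Subgroup R₁).equivMapOfInjective e.toMonoidHom e.injective).symm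
    rcases sylow_of_maximal_s4 hM₁ f T₁ with ⟨n, hn, ⟨d⟩⟩ | ⟨n, hn, hcard, x, y, hx, hy, hxy⟩
    · exact Or.inl ⟨n, hn, ⟨(eT.trans eT₁).trans d⟩⟩
    · refine Or.inr ⟨n, hn, (Nat.card_congr (eT.trans eT₁).toEquiv).trans hcard,
        (eT.trans eT₁).symm x, (eT.trans eT₁).symm y, (MulEquiv.orderOf_eq _ _).trans hx,
        (MulEquiv.orderOf_eq _ _).trans hy, ?_⟩
      rw [← map_inv, ← map_mul, ← map_mul, ← map_pow, hxy]

end Cfsg.Agent.ZGroupReduce
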