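import Cfsg.Agent.Lib.ZGroupReduce.RankTwo
import Cfsg.Agent.Lib.Transfer.Centric
import Cfsg.Agent.Lib.Bender.RankOneHalf
import Cfsg.Agent.Lib.Bender.CoreInCore
import Cfsg.Agent.Lib.PGroup.Basic

/-!
# Reduction of groups with solvable involution centralisers and small `C(Ω₁(Z(S)))`

`reduction` : `O²(G)` has a strongly embedded subgroup, or `Ω₁(Z(S))` is a four-group of all
involutions of `S ∩ O²(G)`, or `O²(G)Ω₁(Z(S))` is of characteristic two type (S3759).
-/

set_option autoImplicit false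
set_option linter.style.haveILetI false

namespace Cfsg.Agent.ZGroupReduce

open Subgroup

variable {G : Type*} [Group G] [Finite G]

/-- `Ω₁(Z(S))`, as in the statements. -/
abbrev wCentre (S : Sylow 2 G) : Subgroup G :=
  Cfsg.omegaOne 2 ((S : Subgroup G) ⊓ centralizer ((S : Subgroup G) : Set G))

theorem wCentre_le (S : Sylow 2 G) : wCentre S ≤ (S : Subgroup G) :=
  (closure_le _).2 fun _ hx => hx.1.1

theorem wCentre_comm (S : Sylow 2 G) {w s : G} (hw : w ∈ wCentre S) (hs : s ∈ (S : Subgroup G)) :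
    Commute s w := by
  have h : wCentre S ≤ centralizer ((S : Subgroup G) : Set G) := (closure_le _).2 fun _ hx => hx.1.2
  exact mem_centralizer_iff.1 (h hw) s hs

theorem wCentre_sq (S : Sylow 2 G) {w : G} (hw : w ∈ wCentre S) : w * w = 1 := by
  induction hw using Subgroup.closure_induction with
  | mem x hx => rw [← pow_two]; exact hx.2
  | one => exact mul_one 1
  | mul a b ha hb iha ihb =>
    have hc : b * a = a * b :=
      ((wCentre_comm S (w := b) hb ((wCentre_le S) ha)).eq).symm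
    calc a * b * (a * b) = a * (b * a) * b := by group
      _ = a * (a * b) * b := by rw [hc]
      _ = (a * a) * (b * b) := by group
      _ = 1 := by rw [iha, ihb, mul_one]
  | inv a _ ih => rw [← mul_inv_rev, ih, inv_one]

theorem no_odd_of_pResidual (hO' : Cfsg.oddCore G = ⊥) :
    Cfsg.oddCore ↥(Cfsg.pResidual 2 G) = ⊥ := by
  haveI := Transfer.pResidual_normal (p := 2) (G := G)
  have := Cores.pPrimeCore_map_subtype (Cfsg.pResidual 2 G) 2
  rw [show Cfsg.pPrimeCore 2 G = ⊥ from hO', bot_inf_eq] at this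
  exact (map_eq_bot_iff_of_injective _ (Cfsg.pResidual 2 G).subtype_injective).1 this

theorem no_two_of_pResidual (hO : Cfsg.pCore 2 G = ⊥) :
    Cfsg.pCore 2 ↥(Cfsg.pResidual 2 G) = ⊥ := by
  haveI := Transfer.pResidual_normal (p := 2) (G := G)
  have := Cores.pCore_map_subtype (Cfsg.pResidual 2 G) 2
  rw [hO, bot_inf_eq] at this
  exact (map_eq_bot_iff_of_injective _ (Cfsg.pResidual 2 G).subtype_injective).1 this

theorem even_pResidual (heven : Even (Nat.card G)) (hO' : Cfsg.oddCore G = ⊥)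
    (hO : Cfsg.pCore 2 G = ⊥) : Even (Nat.card ↥(Cfsg.pResidual 2 G)) := by
  haveI : Fact (Nat.Prime 2) := ⟨Nat.prime_two⟩
  haveI := Transfer.pResidual_normal (p := 2) (G := G)
  by_contra hodd
  have hR : Cfsg.pResidual 2 G = ⊥ := le_bot_iff.1 (hO' ▸ le_sSup ⟨inferInstance,
    ((Nat.prime_two.coprime_iff_not_dvd).2 fun h => hodd (even_iff_two_dvd.2 h)).symm⟩)
  obtain ⟨k, hk⟩ := Transfer.exists_index_pResidual (p := 2) (G := G)
  rw [hR, index_bot] at hk
  have htop : (⊤ : Subgroup G) = ⊥ := le_bot_iff.1 (hO ▸ le_sSup ⟨inferInstance,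
    IsPGroup.of_card (n := k) (by rw [card_top, hk])⟩)
  have h1 : Nat.card G = 1 := by rw [← Subgroup.card_top (G := G), htop, Subgroup.card_bot]
  rw [h1] at heven
  exact absurd heven (by decide)

theorem solvable_centralizer_sub
    (hC : ∀ t : G, orderOf t = 2 → Group.IsSolvable ↥(centralizer ({t} : Set G)))
    (H : Subgroup G) (t : H) (ht : orderOf t = 2) : Group.IsSolvable ↥(centralizer ({t} : Set H)) := by
  haveI := hC (t : G) (by rwa [Subgroup.orderOf_coe])
  let f : ↥(centralizer ({t} : Set H)) →* ↥(centralizer ({(t : G)} : Set G)) :=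
    { toFun := fun x => ⟨((x : H) : G), mem_centralizer_singleton_iff.2
        (congrArg Subtype.val (mem_centralizer_singleton_iff.1 x.2))⟩
      map_one' := rfl
      map_mul' := fun _ _ => rfl }
  have hf : Function.Injective f := fun x y h =>
    Subtype.ext (Subtype.ext (congrArg (fun z => ((z : ↥(centralizer ({(t : G)} : Set G))) : G)) h))
  exact Group.isSolvable_of_isSolvable_injective hf

/-- `S ∩ O²(G)` is not trivial and meets `Ω₁(Z(S))`. -/
theorem exists_wCentre_inf (heven : Even (Nat.card G)) (hO' : Cfsg.oddCore G = ⊥)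
    (hO : Cfsg.pCore 2 G = ⊥) (S : Sylow 2 G) :
    ∃ z : G, z ∈ wCentre S ∧ z ∈ Cfsg.pResidual 2 G ∧ orderOf z = 2 := by
  haveI : Fact (Nat.Prime 2) := ⟨Nat.prime_two⟩
  set R := Cfsg.pResidual 2 G with hRdef
  haveI : R.Normal := Transfer.pResidual_normal
  obtain ⟨t, htR, ht⟩ := Involution.exists_involution_mem (H := R) (even_pResidual heven hO' hO)
  obtain ⟨g, hg⟩ := Involution.exists_conj_mem_sylow S ht
  have hgR : g * t * g⁻¹ ∈ R := (inferInstance : R.Normal).conj_mem t htR g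
  have hne : R.subgroupOf (S : Subgroup G) ≠ ⊥ := fun e => by
    have : (⟨g * t * g⁻¹, hg⟩ : (S : Subgroup G)) = 1 :=
      Subgroup.mem_bot.1 (e ▸ mem_subgroupOf.2 hgR)
    exact Involution.ne_one (Involution.orderOf_conj g t ▸ ht) (congrArg Subtype.val this)
  obtain ⟨x, hx, hx1⟩ := (Subgroup.bot_or_exists_ne_one _).resolve_left
    (PGroup.inf_center_ne_bot S.isPGroup' hne)
  obtain ⟨j, hj⟩ := IsPGroup.iff_orderOf.1 S.isPGroup' x
  have hj1 : j ≠ 0 := fun e => hx1 (orderOf_eq_one_iff.1 (by rw [hj, e, pow_zero]))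
  set y := x ^ 2 ^ (j - 1) with hy
  have hyo : orderOf y = 2 := by
    rw [hy, orderOf_pow, hj, Nat.gcd_eq_right (pow_dvd_pow 2 (Nat.sub_le j 1)),
      Nat.pow_div (Nat.sub_le j 1) two_pos, show j - (j - 1) = 1 by omega, pow_one]
  have hyc : y ∈ Subgroup.center ↥(S : Subgroup G) := pow_mem hx.2 _
  refine ⟨(y : G), subset_closure ⟨⟨y.2, mem_centralizer_iff.2 fun s hs => ?_⟩, ?_⟩,
    pow_mem (mem_subgroupOf.1 hx.1) _, by rwa [Subgroup.orderOf_coe]⟩
  · exact congrArg Subtype.val (Subgroup.mem_center_iff.1 hyc ⟨s, hs⟩)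
  · have h2 := pow_orderOf_eq_one y
    rw [hyo] at h2
    rw [← SubgroupClass.coe_pow, h2]; rfl

theorem sylow_inf_pResidual (S : Sylow 2 G) : ∃ T : Sylow 2 ↥(Cfsg.pResidual 2 G),
    (T : Subgroup ↥(Cfsg.pResidual 2 G)) = (S : Subgroup G).subgroupOf (Cfsg.pResidual 2 G) := by
  haveI : Fact (Nat.Prime 2) := ⟨Nat.prime_two⟩
  haveI := Transfer.pResidual_normal (p := 2) (G := G)
  exact Cores.sylow_inf_isSubnormal S (Subgroup.Normal.isSubnormal inferInstance)

/-- A 2-subgroup of `O²(G)` over `S ∩ O²(G)` is that. -/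
theorem inf_max (S : Sylow 2 G) {Q : Subgroup G} (hQ : IsPGroup 2 Q)
    (hQR : Q ≤ Cfsg.pResidual 2 G) (hle : (S : Subgroup G) ⊓ Cfsg.pResidual 2 G ≤ Q) :
    Q ≤ (S : Subgroup G) := by
  obtain ⟨T, hT⟩ := sylow_inf_pResidual S
  have h := T.3 (hQ.comap_subtype (K := Cfsg.pResidual 2 G)) (fun x hx => by
    rw [hT] at hx
    exact hle ⟨hx, x.2⟩)
  intro q hq
  have : (⟨q, hQR hq⟩ : ↥(Cfsg.pResidual 2 G)) ∈ (T : Subgroup ↥(Cfsg.pResidual 2 G)) := by
    rw [← h]; exact hq
  rw [hT] at this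
  exact this

/-- `S ∩ O²(G)Ω₁(Z(S))` is a Sylow 2-subgroup of that group. -/
theorem sylow_sup (S : Sylow 2 G) : ∃ Q : Sylow 2 ↥(Cfsg.pResidual 2 G ⊔ wCentre S),
    (Q : Subgroup ↥(Cfsg.pResidual 2 G ⊔ wCentre S)) =
      (S : Subgroup G).subgroupOf (Cfsg.pResidual 2 G ⊔ wCentre S) := by
  haveI : Fact (Nat.Prime 2) := ⟨Nat.prime_two⟩
  haveI := Transfer.pResidual_normal (p := 2) (G := G)
  set R := Cfsg.pResidual 2 G
  set W := wCentre S
  set H := R ⊔ W with hH
  obtain ⟨P, hP⟩ := (S.isPGroup'.comap_subtype (K := H)).exists_le_sylow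
  refine ⟨P, le_antisymm (fun p hp => ?_) hP⟩
  set P' := (P : Subgroup H).map H.subtype with hP'
  have hPp : IsPGroup 2 P' := P.isPGroup'.map _
  have hWP : W ≤ P' := fun w hw =>
    ⟨⟨w, mem_sup_right hw⟩, hP (mem_subgroupOf.2 (wCentre_le S hw)), rfl⟩
  have hin : P' ⊓ R ≤ (S : Subgroup G) :=
    inf_max S (hPp.to_le inf_le_left) inf_le_right (fun x hx =>
      ⟨⟨⟨x, mem_sup_left hx.2⟩, hP (mem_subgroupOf.2 hx.1), rfl⟩, hx.2⟩)
  obtain ⟨r, hr, w, hw, he⟩ := mem_sup_of_normal_left.1 p.2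
  refine mem_subgroupOf.2 ?_
  rw [← he]
  refine mul_mem (hin ⟨?_, hr⟩) (wCentre_le S hw)
  rw [show r = (p : G) * w⁻¹ by rw [← he, mul_inv_cancel_right]]
  exact P'.mul_mem ⟨p, hp, rfl⟩ (P'.inv_mem (hWP hw))

variable (heven : Even (Nat.card G))
  (hC : ∀ t : G, orderOf t = 2 → Group.IsSolvable ↥(centralizer ({t} : Set G)))
  (hZ : ∀ S : Sylow 2 G, centralizer (wCentre S : Set G) ≤ normalizer ((S : Subgroup G) : Set G))
  (hO' : Cfsg.oddCore G = ⊥) (hO : Cfsg.pCore 2 G = ⊥) (S : Sylow 2 G)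
include heven hC hO' hO

theorem hyp_pResidual : Hyp ↥(Cfsg.pResidual 2 G) where
  even := even_pResidual heven hO' hO
  oddCore := no_odd_of_pResidual hO'
  twoCore := no_two_of_pResidual hO
  no_index_two := Transfer.index_ne_two_pResidual
  solvable := solvable_centralizer_sub hC _

/-- Central involutions outside `O²(G)`: characteristic two type. -/
theorem char_two_of_not_le (hW : ¬ wCentre S ≤ Cfsg.pResidual 2 G) :
    Cfsg.IsCharacteristicTwoType ↥(Cfsg.pResidual 2 G ⊔ wCentre S) := by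
  haveI : Fact (Nat.Prime 2) := ⟨Nat.prime_two⟩
  haveI := Transfer.pResidual_normal (p := 2) (G := G)
  have hRhyp := hyp_pResidual heven hC hO' hO
  set R := Cfsg.pResidual 2 G with hRdef
  set W := wCentre S with hWdef
  set H := R ⊔ W with hH
  obtain ⟨z, hzW, hzR, hz⟩ := exists_wCentre_inf heven hO' hO S
  obtain ⟨t, htW, htR⟩ := SetLike.not_le_iff_exists.1 hW
  have ht : orderOf t = 2 :=
    Involution.orderOf_of_sq (wCentre_sq S htW) fun e => htR (e ▸ one_mem _)
  have hHeven : Even (Nat.card H) := even_iff_two_dvd.2 (hz ▸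
    Subgroup.orderOf_dvd_natCard H (mem_sup_left hzR))
  have hHC := solvable_centralizer_sub hC H
  have hHO : Cfsg.oddCore ↥H = ⊥ := by
    refine (Subgroup.eq_bot_iff_forall _).2 fun x hx => ?_
    set N := Cfsg.oddCore ↥H
    haveI : N.Normal := Cores.pPrimeCore_normal 2 _
    have hxR : (x : G) ∈ R := Transfer.mem_pResidual_of_coprime (by
      rw [Subgroup.orderOf_coe]
      exact (Cores.coprime_card_pPrimeCore (G := ↥H) 2).coprime_dvd_left
        (Subgroup.orderOf_dvd_natCard N hx))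
    have hN : N.comap (Subgroup.inclusion (le_sup_left : R ≤ H)) ≤ Cfsg.oddCore ↥R :=
      le_sSup ⟨inferInstance, (Cores.coprime_card_pPrimeCore (G := ↥H) 2).coprime_dvd_left
        ((Subgroup.card_comap_dvd_of_injective N _ (Subgroup.inclusion_injective _)))⟩
    have h1 : (⟨(x : G), hxR⟩ : R) ∈ Cfsg.oddCore ↥R := hN hx
    rw [hRhyp.oddCore, Subgroup.mem_bot] at h1
    exact Subtype.ext (congrArg Subtype.val h1 :)
  obtain ⟨Q, hQ⟩ := sylow_sup S
  set zQ : (Q : Subgroup H) := ⟨⟨z, mem_sup_left hzR⟩, hQ ▸ mem_subgroupOf.2 (wCentre_le S hzW)⟩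
  set tQ : (Q : Subgroup H) := ⟨⟨t, mem_sup_right htW⟩, hQ ▸ mem_subgroupOf.2 (wCentre_le S htW)⟩
  have hzo : orderOf zQ = 2 := by rw [← Subgroup.orderOf_coe, ← Subgroup.orderOf_coe]; exact hz
  have hto : orderOf tQ = 2 := by rw [← Subgroup.orderOf_coe, ← Subgroup.orderOf_coe]; exact ht
  have hcen : ∀ {w : G} (hw : w ∈ W) (hwH : w ∈ H) (hwQ : (⟨w, hwH⟩ : H) ∈ (Q : Subgroup H)),
      (⟨⟨w, hwH⟩, hwQ⟩ : (Q : Subgroup H)) ∈ Subgroup.center ↥(Q : Subgroup H) := by
    intro w hw hwH hwQ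
    refine Subgroup.mem_center_iff.2 fun s => Subtype.ext (Subtype.ext (wCentre_comm S hw ?_).eq)
    exact mem_subgroupOf.1 (hQ ▸ s.2)
  have hconn : Cfsg.IsFourConnected ↥(Q : Subgroup H) :=
    isFourConnected_of_central hzo hto
      (fun e => htR (by
        have e' : z = t := congrArg (fun q : ↥(Q : Subgroup H) => ((q : H) : G)) e
        rw [← e']; exact hzR))
      (hcen hzW _ _) (hcen htW _ _)
  have hrank : ¬ Cfsg.PRankLE 2 2 ↥H := by
    intro hr
    obtain ⟨y, hy, hyR, hyz⟩ : ∃ y ∈ (S : Subgroup G), y ∈ R ∧ orderOf y = 2 ∧ y ≠ z := by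
      by_contra hc
      push Not at hc
      refine not_isolated hRhyp.oddCore hRhyp.twoCore (⟨z, hzR⟩ : R)
        ⟨by rw [Subgroup.orderOf_mk]; exact hz, fun g hg => ?_⟩
      obtain ⟨T, hT⟩ := sylow_inf_pResidual S
      set C := centralizer ({(⟨z, hzR⟩ : R)} : Set R)
      have hTC : (T : Subgroup R) ≤ C := fun s hs => mem_centralizer_singleton_iff.2
        (Subtype.ext (wCentre_comm S hzW (mem_subgroupOf.1 (hT ▸ hs))).eq)
      set u := g * (⟨z, hzR⟩ : R) * g⁻¹
      have hu : u ∈ C := mem_centralizer_singleton_iff.2 hg.symm.eq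
      obtain ⟨c, hc'⟩ := Involution.exists_conj_mem_sylow (T.subtype hTC) (t := (⟨u, hu⟩ : C))
        (by rw [Subgroup.orderOf_mk, Involution.orderOf_conj, Subgroup.orderOf_mk]; exact hz)
      have hcT : (c : R) * u * (c : R)⁻¹ ∈ (T : Subgroup R) := mem_subgroupOf.1 hc'
      rw [hT] at hcT
      have h1 := hc _ (mem_subgroupOf.1 hcT) ((c : R) * u * (c : R)⁻¹).2
        (by rw [Subgroup.orderOf_coe, Involution.orderOf_conj, Involution.orderOf_conj,
          Subgroup.orderOf_mk]; exact hz)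
      have h2 : (c : R) * u * (c : R)⁻¹ = (⟨z, hzR⟩ : R) := Subtype.ext h1
      calc u = (c : R)⁻¹ * ((c : R) * u * (c : R)⁻¹) * (c : R) := by group
        _ = (⟨z, hzR⟩ : R) := by
          rw [h2, mul_assoc, ← mem_centralizer_singleton_iff.1 c.2, inv_mul_cancel_left]
    obtain ⟨hyo, hyz⟩ := hyz
    have hzy : Commute z y := (wCentre_comm S hzW hy).symm
    have hA := elemAb_pair (hz ▸ pow_orderOf_eq_one z) (hyo ▸ pow_orderOf_eq_one y) hzy
    set A := zpowers z ⊔ zpowers y with hAdef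
    have hAS : A ≤ (S : Subgroup G) :=
      sup_le (zpowers_le.2 (wCentre_le S hzW)) (zpowers_le.2 hy)
    have hAR : A ≤ R := sup_le (zpowers_le.2 hzR) (zpowers_le.2 hyR)
    have hB : Cfsg.IsElementaryAbelian 2 (A ⊔ zpowers t) := by
      refine Signalizer.elemAb_sup hA
        (CoreKilling.isElementaryAbelian_zpowers (ht ▸ pow_orderOf_eq_one t)) ?_
      intro a ha b hb
      obtain ⟨i, rfl⟩ := mem_zpowers_iff.1 hb
      exact ((wCentre_comm S htW (hAS ha)).zpow_right i).eq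
    have h8 : Nat.card ↥(A ⊔ zpowers t) = 8 := by
      rw [Signalizer.card_sup_zpowers hB le_sup_left
        ((le_sup_right : zpowers t ≤ _) (mem_zpowers t)) (fun h => htR (hAR h)),
        card_pair hz hyo hzy (Ne.symm hyz)]
    have hBH : A ⊔ zpowers t ≤ H :=
      sup_le (hAR.trans le_sup_left) (zpowers_le.2 (mem_sup_right htW))
    have h := hr ((A ⊔ zpowers t).subgroupOf H) ⟨⟨fun a b => Subtype.ext (Subtype.ext
      (Signalizer.commute_of_isMulCommutative hB.1 (mem_subgroupOf.1 a.2) (mem_subgroupOf.1 b.2)))⟩⟩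
      (fun a ha => Subtype.ext (by rw [SubgroupClass.coe_pow]; exact hB.2 _ (mem_subgroupOf.1 ha)))
    rw [Nat.card_congr (Subgroup.subgroupOfEquivOfLe hBH).toEquiv, h8] at h
    norm_num at h
  refine NonComponent.isCharacteristicTwoType_of_cores_trivial hHeven (not_isComponentType hHC)
    (NonComponent.core_eq_bot (fun K hK => Bender.oddCore_le Bender.rankOneHalf hK) hHO hrank Q
      hconn fun u hu => ?_)
  haveI := hHC u hu
  exact HallHigman.isPConstrained_of_isSolvable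

include hZ

/-- The reduction. -/
theorem reduction : (∃ M : Subgroup ↥(Cfsg.pResidual 2 G), Cfsg.IsStronglyEmbedded M) ∨
    (Nat.card ↥(wCentre S) = 4 ∧
      Cfsg.omegaOne 2 ((S : Subgroup G) ⊓ Cfsg.pResidual 2 G) = wCentre S) ∨
    Cfsg.IsCharacteristicTwoType ↥(Cfsg.pResidual 2 G ⊔ wCentre S) := by
  haveI : Fact (Nat.Prime 2) := ⟨Nat.prime_two⟩
  by_cases hW : wCentre S ≤ Cfsg.pResidual 2 G
  swap
  · exact Or.inr (Or.inr (char_two_of_not_le heven hC hO' hO S hW))
  set R := Cfsg.pResidual 2 G with hR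
  set W := wCentre S with hWdef
  obtain ⟨T, hT⟩ := sylow_inf_pResidual S
  obtain ⟨z, hzW, hzR, hz⟩ := exists_wCentre_inf heven hO' hO S
  have h := concl_of_le (hyp_pResidual heven hC hO' hO) T (W.subgroupOf R)
    (fun w hw => hT ▸ mem_subgroupOf.2 (wCentre_le S (mem_subgroupOf.1 hw)))
    (fun w hw => Subtype.ext (wCentre_sq S (mem_subgroupOf.1 hw)))
    (fun e => Involution.ne_one (x := (⟨z, hzR⟩ : R)) (by rw [Subgroup.orderOf_mk]; exact hz) (by
      have hm : (⟨z, hzR⟩ : R) ∈ W.subgroupOf R := mem_subgroupOf.2 hzW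
      rw [e] at hm
      exact Subgroup.mem_bot.1 hm))
    (fun w hw s hs => Subtype.ext
      (wCentre_comm S (mem_subgroupOf.1 hw) (mem_subgroupOf.1 (hT ▸ hs))).eq)
    (fun g hg => by
      have hgN : (g : G) ∈ normalizer ((S : Subgroup G) : Set G) := hZ S (mem_centralizer_iff.2
        fun w hw => congrArg Subtype.val
          (mem_centralizer_iff.1 hg (⟨w, hW hw⟩ : R) (mem_subgroupOf.2 hw)))
      refine Coprime.mem_normalizer_of_forall fun x hx => ?_
      rw [hT] at hx ⊢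
      exact mem_subgroupOf.2 ((mem_normalizer_iff.1 hgN x).1 (mem_subgroupOf.1 hx)))
  rcases h with h | ⟨h4, hall⟩ | h
  · exact Or.inl h
  · refine Or.inr (Or.inl ⟨(Nat.card_congr (Subgroup.subgroupOfEquivOfLe hW).toEquiv).symm.trans h4,
      le_antisymm ((closure_le _).2 fun x hx => ?_) fun w hw => ?_⟩)
    · exact mem_subgroupOf.1 (hall (⟨x, hx.1.2⟩ : R) (hT ▸ mem_subgroupOf.2 hx.1.1)
        (Subtype.ext (by rw [← pow_two] ; exact hx.2)))
    · exact subset_closure ⟨⟨wCentre_le S hw, hW hw⟩, by rw [pow_two]; exact wCentre_sq S hw⟩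
  · refine Or.inr (Or.inr ?_)
    rw [sup_eq_left.2 hW]
    exact h

end Cfsg.Agent.ZGroupReduce
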