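import Cfsg.Agent.Lib.ZGroupReduce.Central
import Cfsg.Agent.Lib.UFourSylow.Local
import Cfsg.Agent.S1238
import Cfsg.Agent.S1296
import Mathlib.FieldTheory.Finite.GaloisField

/-!
# The case in which the central involutions lie in `O²(G)`

`concl_of_le` : strong embedding, a four-group of all involutions, or characteristic two type.
-/

set_option autoImplicit false
set_option linter.style.haveILetI false

namespace Cfsg.Agent.ZGroupReduce

open Subgroup QDWreath

variable {R : Type*} [Group R] [Finite R]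

/-- An abelian `T` with exactly four elements of square one. -/
theorem exists_four_of_pair {m : Type*} [CommGroup m] (T : Sylow 2 R) (e : (T : Subgroup R) ≃* m)
    (h4 : Nat.card {x : m // x * x = 1} = 4) :
    ∃ A : Subgroup R, Nat.card A = 4 ∧ A ≤ (T : Subgroup R) ∧
      (∀ x ∈ (T : Subgroup R), x * x = 1 ↔ x ∈ A) ∧ (T : Subgroup R) ≤ centralizer (A : Set R) := by
  let B : Subgroup m :=
    { carrier := {x | x * x = 1}
      one_mem' := mul_one 1
      mul_mem' := fun {a b} ha hb => by
        simp only [Set.mem_ofPred_eq] at ha hb ⊢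
        rw [mul_mul_mul_comm, ha, hb, mul_one]
      inv_mem' := fun {a} ha => by
        simp only [Set.mem_ofPred_eq] at ha ⊢
        rw [← mul_inv, ha, inv_one] }
  refine ⟨(B.comap e.toMonoidHom).map (T : Subgroup R).subtype, ?_, map_subtype_le _,
    fun x hx => ?_, ?_⟩
  · rw [card_map_of_injective (T : Subgroup R).subtype_injective]
    exact (Nat.card_congr (Equiv.subtypeEquiv e.toEquiv fun y => Iff.rfl :
      {y // y ∈ B.comap e.toMonoidHom} ≃ {x : m // x * x = 1})).trans h4
  · constructor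
    · intro h2
      refine ⟨⟨x, hx⟩, ?_, rfl⟩
      show e ⟨x, hx⟩ * e ⟨x, hx⟩ = 1
      rw [← map_mul, ← map_one e]
      exact congrArg e (Subtype.ext h2)
    · rintro ⟨y, hy, rfl⟩
      have h2 : e y * e y = 1 := hy
      rw [← map_mul, ← map_one e] at h2
      exact congrArg Subtype.val (e.injective h2)
  · intro s hs
    refine mem_centralizer_iff.2 ?_
    rintro _ ⟨y, -, rfl⟩
    exact congrArg Subtype.val (show y * ⟨s, hs⟩ = ⟨s, hs⟩ * y from e.injective (by
      rw [map_mul, map_mul, mul_comm]))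

theorem card_torsion_homocyclic {n : ℕ} (hn : 1 ≤ n) :
    Nat.card {x : Multiplicative (ZMod (2 ^ n) × ZMod (2 ^ n)) // x * x = 1} = 4 := by
  have hne : tp n (n - 1) ≠ 0 := tp_ne_zero n (n - 1) (by omega)
  have h1 : Nat.card {i : ZMod (2 ^ n) // i + i = 0} = 2 := by
    rw [Nat.card_congr (Equiv.subtypeEquivRight (q := fun i => i ∈ ({0, tp n (n - 1)} : Set (ZMod (2 ^ n))))
      fun i => by rw [← two_mul, two_mul_eq_zero hn]; simp)]
    exact Set.ncard_pair hne.symm
  have e : {x : Multiplicative (ZMod (2 ^ n) × ZMod (2 ^ n)) // x * x = 1} ≃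
      {i : ZMod (2 ^ n) // i + i = 0} × {i : ZMod (2 ^ n) // i + i = 0} :=
    { toFun := fun x => (⟨(Multiplicative.toAdd x.1).1, congrArg Prod.fst (congrArg Multiplicative.toAdd x.2)⟩,
        ⟨(Multiplicative.toAdd x.1).2, congrArg Prod.snd (congrArg Multiplicative.toAdd x.2)⟩)
      invFun := fun p => ⟨Multiplicative.ofAdd (p.1.1, p.2.1),
        congrArg Multiplicative.ofAdd (Prod.ext p.1.2 p.2.2)⟩
      left_inv := fun x => rfl
      right_inv := fun p => rfl }
  rw [Nat.card_congr e, Nat.card_prod, h1]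

/-- The case `W ≤ T` of the reduction. -/
theorem concl_of_le (h : Hyp R) (T : Sylow 2 R) (W : Subgroup R) (hWT : W ≤ (T : Subgroup R))
    (hW2 : ∀ w ∈ W, w * w = 1) (hW1 : W ≠ ⊥)
    (hWc : ∀ w ∈ W, ∀ s ∈ (T : Subgroup R), Commute s w)
    (hCW : centralizer (W : Set R) ≤ normalizer ((T : Subgroup R) : Set R)) : Concl T W := by
  haveI : Fact (Nat.Prime 2) := ⟨Nat.prime_two⟩
  by_cases hr : Cfsg.PRankLE 2 2 R
  swap
  · rcases S1296.result h.even (fun N _ => h.no_index_two N) h.oddCore with h' | h' | h'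
    · exact absurd h' hr
    · exact absurd h' (not_isComponentType h.solvable)
    · exact Or.inr (Or.inr h')
  haveI : Fintype (GaloisField 2 4) := Fintype.ofFinite _
  have hF : Fintype.card (GaloisField 2 4) = 16 := by
    rw [← Nat.card_eq_fintype_card, GaloisField.card 2 4 (by norm_num)]
    norm_num
  obtain ⟨P⟩ : Nonempty (Sylow 2 (Cfsg.PSU 3 (GaloisField 2 4) 4)) := inferInstance
  rcases S1238.result hr (not_rankLE_one h.oddCore h.twoCore h.even) h.no_index_two
    (not_isolated h.oddCore h.twoCore) T hF P with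
    ⟨m, hm, ⟨e⟩⟩ | hq | hw | ⟨n, hn, ⟨e⟩⟩ | ⟨⟨e⟩⟩
  · obtain ⟨k, rfl⟩ := Transfer.exists_two_pow_of_dihedral T (by omega) e
    by_cases hk : 2 ≤ k
    · exact dihedral_case h T W hWT hW2 hWc hCW hk e
    obtain rfl : k = 1 := by
      rcases k with _ | k
      · simp at hm
      · omega
    have hall : ∀ x : DihedralGroup (2 ^ 1), x * x = 1 := by decide
    have hall' : ∀ x : (T : Subgroup R), x * x = 1 := fun x => e.injective (by
      rw [map_mul, map_one]; exact hall _)
    have hcomm : ∀ x y : (T : Subgroup R), x * y = y * x := fun x y => by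
      have h1 : ∀ a : (T : Subgroup R), a⁻¹ = a := fun a => inv_eq_of_mul_eq_one_right (hall' a)
      calc x * y = (x * y)⁻¹ := (h1 _).symm
        _ = y * x := by rw [mul_inv_rev, h1, h1]
    refine four_case h T W hWT hW2 hW1 hCW (T : Subgroup R) ?_ le_rfl
      (fun x hx => ⟨fun _ => hx, fun _ => congrArg Subtype.val (hall' ⟨x, hx⟩)⟩) fun s hs =>
        mem_centralizer_iff.2 fun t ht => congrArg Subtype.val (hcomm ⟨t, ht⟩ ⟨s, hs⟩)
    rw [Nat.card_congr e.toEquiv, DihedralGroup.nat_card]
    norm_num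
  · exact (qd_false h T W hWT hW2 hWc hCW hq).elim
  · exact (wr_false h T W hWT hW2 hWc hCW hw).elim
  · obtain ⟨A, hA4, hAT, hmem, hcen⟩ :=
      exists_four_of_pair T e (card_torsion_homocyclic (by omega))
    exact four_case h T W hWT hW2 hW1 hCW A hA4 hAT hmem hcen
  · have hU : UFourSylow.USylow (T : Subgroup R) := (UFourSylow.usylow_psu hF P).congr e.symm
    exact four_case h T W hWT hW2 hW1 hCW (UFourSylow.omegaOne T) (UFourSylow.card_omegaOne hU)
      (UFourSylow.omegaOne_le T) (fun x hx => UFourSylow.sq_eq_one_iff hU hx)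
      (UFourSylow.le_centralizer_omegaOne hU)

end Cfsg.Agent.ZGroupReduce
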